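import Groth.Agent.DiffSmLib.Transfer
import Groth.Agent.SymGrLib.Criterion
import Groth.Agent.SymGrLib.Geometric
import Groth.Prelude.Def_PP16

/-! Differential smoothness as adic formal smoothness of the diagonal; base change. -/

set_option autoImplicit false
set_option linter.style.haveILetI false
set_option backward.isDefEq.respectTransparency false

universe u

open TensorProduct

namespace Groth.Agent.DiffSmLib

theorem formallySmooth_quot_diag (A B : Type u) [CommRing A] [CommRing B] [Algebra A B] :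
    Algebra.FormallySmooth B ((B ⊗[A] B) ⧸ KaehlerDifferential.ideal A B) := by
  refine Algebra.FormallySmooth.of_equiv (A := B)
    (AlgEquiv.ofBijective (Algebra.ofId B _) ⟨fun a b h => ?_, fun r => ?_⟩)
  · have h' := Ideal.Quotient.eq.1 h
    have := (RingHom.mem_ker).1 (show algebraMap B (B ⊗[A] B) a - algebraMap B (B ⊗[A] B) b ∈
      RingHom.ker (mulHom A B) from h')
    rwa [map_sub, mulHom_algebraMap, mulHom_algebraMap, sub_eq_zero] at this
  · obtain ⟨r, rfl⟩ := Ideal.Quotient.mk_surjective r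
    exact ⟨mulHom A B r, (Ideal.Quotient.eq.2 (sub_algebraMap_mem A B r)).symm⟩

/-- Differential smoothness is adic formal smoothness of the diagonal. -/
theorem isDiffSmooth_iff (A B : Type u) [CommRing A] [CommRing B] [Algebra A B] :
    PP16.IsDiffSmooth A B ↔ CAlgX.IsAdicFormallySmooth B (B ⊗[A] B) (KaehlerDifferential.ideal A B) := by
  haveI := formallySmooth_quot_diag A B
  rw [SymGrLib.isAdicFormallySmooth_iff_symGr (A := B) (KaehlerDifferential.ideal A B)]
  exact ⟨fun h => symGr_of_isDiffSmooth h, fun h => isDiffSmooth_of_symGr h.1 h.2⟩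

/-- Adic formal smoothness is invariant under isomorphisms. -/
theorem isAdicFormallySmooth_of_equiv {R S S' : Type u} [CommRing R] [CommRing S] [CommRing S'] [Algebra R S]
    [Algebra R S'] (e : S ≃ₐ[R] S') {I : Ideal S'} (h : CAlgX.IsAdicFormallySmooth R S (I.comap e)) :
    CAlgX.IsAdicFormallySmooth R S' I := by
  intro D _ _ J hJ ψ hψ
  obtain ⟨k, hk⟩ := hψ
  obtain ⟨χ, hχ⟩ := h D J hJ (ψ.comp e.toAlgHom) ⟨k, fun x hx => hk (e x) (Ideal.le_comap_pow e k hx)⟩
  refine ⟨χ.comp e.symm.toAlgHom, AlgHom.ext fun x => ?_⟩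
  have := AlgHom.congr_fun hχ (e.symm x)
  simpa using this

variable (A B A' B' : Type u) [CommRing A] [CommRing B] [Algebra A B]
  [CommRing A'] [CommRing B'] [Algebra A' B'] [Algebra A A'] [Algebra B B'] [Algebra A B']
  [IsScalarTower A A' B'] [IsScalarTower A B B'] [Algebra.IsPushout A B A' B']

/-- Differential smoothness is stable under base change. -/
theorem isDiffSmooth_baseChange (h : PP16.IsDiffSmooth A B) : PP16.IsDiffSmooth A' B' := by
  rw [isDiffSmooth_iff] at h ⊢
  haveI : SMulCommClass A' B B' := ⟨fun a b c => by simp only [Algebra.smul_def]; ring⟩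
  let τ : B ⊗[A] B →ₐ[B] B' ⊗[A'] B' :=
    { (PP16.tensorMap A B A' B').toRingHom with
      commutes' := fun b => by
        show PP16.tensorMap A B A' B' (b ⊗ₜ 1) = _
        rw [PP16.tensorMap_tmul, map_one]
        rfl }
  let ψ : B' ⊗[B] (B ⊗[A] B) →ₐ[B'] B' ⊗[A'] B' :=
    Algebra.TensorProduct.lift (Algebra.ofId B' _) τ fun _ _ => Commute.all _ _
  let inl : B' →+* B' ⊗[B] (B ⊗[A] B) := Algebra.TensorProduct.includeLeftRingHom
  let inr : B ⊗[A] B →ₐ[B] B' ⊗[B] (B ⊗[A] B) := Algebra.TensorProduct.includeRight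
  haveI : SMulCommClass B A' B' := SMulCommClass.symm _ _ _
  haveI : SMulCommClass B A B' := ⟨fun a b c => by simp only [Algebra.smul_def]; ring⟩
  haveI : SMulCommClass A B B' := ⟨fun a b c => by simp only [Algebra.smul_def]; ring⟩
  let f : B →ₐ[A] B' ⊗[B] (B ⊗[A] B) :=
    { inr.toRingHom.comp (Algebra.TensorProduct.includeRight : B →ₐ[A] B ⊗[A] B).toRingHom with
      commutes' := fun a => by
        show inr ((1 : B) ⊗ₜ[A] algebraMap A B a) = inl (algebraMap A B' a)
        rw [show ((1 : B) ⊗ₜ[A] algebraMap A B a) = algebraMap B (B ⊗[A] B) (algebraMap A B a) by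
          simp [Algebra.algebraMap_eq_smul_one, TensorProduct.tmul_smul, TensorProduct.smul_tmul', Algebra.TensorProduct.one_def]]
        rw [inr.commutes, IsScalarTower.algebraMap_apply A B B']
        rfl }
  let g : A' →ₐ[A] B' ⊗[B] (B ⊗[A] B) := { inl.comp (algebraMap A' B') with
      commutes' := fun a => by
        show inl (algebraMap A' B' (algebraMap A A' a)) = inl (algebraMap A B' a)
        rw [← IsScalarTower.algebraMap_apply] }
  let d := Algebra.pushoutDesc B' f g fun _ _ => Commute.all _ _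
  have hdA : ∀ a, d (algebraMap A' B' a) = inl (algebraMap A' B' a) := fun a => Algebra.pushoutDesc_right B' f g _ a
  let φ : B' ⊗[A'] B' →ₐ[B'] B' ⊗[B] (B ⊗[A] B) :=
    Algebra.TensorProduct.lift (Algebra.ofId B' _)
      ({ d.toRingHom with commutes' := hdA } : B' →ₐ[A'] _) fun _ _ => Commute.all _ _
  have h1 : φ.comp ψ = AlgHom.id B' _ := by
    refine Algebra.TensorProduct.ext (AlgHom.ext fun c => ?_) ?_
    · simp [φ, ψ]
    · refine Algebra.TensorProduct.ext (AlgHom.ext fun b => ?_) (AlgHom.ext fun b => ?_)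
      · simp [φ, ψ, τ, PP16.tensorMap_tmul, inl]
        rw [Algebra.algebraMap_eq_smul_one, TensorProduct.smul_tmul, Algebra.TensorProduct.one_def,
          TensorProduct.smul_tmul', smul_eq_mul, mul_one]
      · simp [φ, ψ, τ, PP16.tensorMap_tmul]
        rw [← Algebra.TensorProduct.one_def, one_mul]
        exact Algebra.pushoutDesc_left B' f g _ b
  have h2 : ψ.comp φ = AlgHom.id B' _ := by
    refine Algebra.TensorProduct.ext (AlgHom.ext fun c => ?_) (AlgHom.ext fun c => ?_)
    · simp [φ, ψ]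
    · show ψ (φ ((1 : B') ⊗ₜ[A'] c)) = (1 : B') ⊗ₜ[A'] c
      have hφc : φ ((1 : B') ⊗ₜ[A'] c) = d c := by
        simp [φ]
        rw [← Algebra.TensorProduct.one_def, one_mul]
      rw [hφc]
      clear hφc
      have h : IsTensorProduct _ := (Algebra.IsPushout.out (R := A) (S := B) (R' := A') (S' := B'))
      induction c using h.inductionOn with
      | zero => rw [map_zero, map_zero, TensorProduct.tmul_zero]
      | add x y hx hy => rw [map_add, map_add, hx, hy, TensorProduct.tmul_add]
      | tmul b a =>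
        show ψ (d (b • algebraMap A' B' a)) = (1 : B') ⊗ₜ[A'] (b • algebraMap A' B' a)
        have hb : d (algebraMap B B' b) = f b := Algebra.pushoutDesc_left B' f g _ b
        rw [Algebra.smul_def, map_mul, map_mul, hb, hdA]
        have h3 : ψ (f b) = (1 : B') ⊗ₜ[A'] algebraMap B B' b := by
          show ψ ((1 : B') ⊗ₜ[B] ((1 : B) ⊗ₜ[A] b)) = _
          simp [ψ, τ, PP16.tensorMap_tmul]
        have h4 : ψ (inl (algebraMap A' B' a)) = (1 : B') ⊗ₜ[A'] algebraMap A' B' a := by
          show ψ (algebraMap A' B' a ⊗ₜ[B] (1 : B ⊗[A] B)) = _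
          simp [ψ]
          rw [Algebra.algebraMap_eq_smul_one, TensorProduct.smul_tmul]
        rw [h3, h4, Algebra.TensorProduct.tmul_mul_tmul, mul_one]
  let e : B' ⊗[B] (B ⊗[A] B) ≃ₐ[B'] B' ⊗[A'] B' := AlgEquiv.ofAlgHom ψ φ h2 h1
  refine isAdicFormallySmooth_of_equiv e ?_
  refine SymGrLib.isAdicFormallySmooth_baseChange h B' _ ?_
  rw [Ideal.map_le_iff_le_comap]
  intro x hx
  show e ((1 : B') ⊗ₜ[B] x) ∈ KaehlerDifferential.ideal A' B'
  have : e ((1 : B') ⊗ₜ[B] x) = PP16.tensorMap A B A' B' x := by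
    show ψ ((1 : B') ⊗ₜ[B] x) = _
    simp [ψ, τ]
    rw [← Algebra.TensorProduct.one_def, one_mul]
  rw [this]
  exact PP16.ideal_map_tensorMap_le A B A' B' (Ideal.mem_map_of_mem _ hx)

end Groth.Agent.DiffSmLib
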