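import Groth.Agent.DiffSmLib.Mono

/-! Monomial bases of the rings of principal parts. -/

set_option autoImplicit false
set_option linter.style.haveILetI false

universe u v

open TensorProduct MvPolynomial

namespace Groth.Agent.DiffSmLib

variable {A B : Type u} [CommRing A] [CommRing B] [Algebra A B]

/-- The element `1 ⊗ z - z ⊗ 1`. -/
noncomputable abbrev zt (z : B) : B ⊗[A] B := (1 : B) ⊗ₜ[A] z - z ⊗ₜ[A] (1 : B)

/-- The canonical map of graded pieces of a differentially smooth algebra has the expected values. -/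
theorem exists_gr_bijective (h : PP16.IsDiffSmooth A B) (ι : Type u) [Fintype ι] [Nonempty ι] :
    ∃ L : SymmetricPower B ι (KaehlerDifferential A B) →ₗ[B] PP16.grI A B (Fintype.card ι),
      Function.Bijective L ∧
      ∀ (x : ι → B ⊗[A] B) (hx : ∀ i, x i ∈ KaehlerDifferential.ideal A B),
        L (SymmetricPower.tprod B fun i => ((KaehlerDifferential.ideal A B).toCotangent ⟨x i, hx i⟩ : KaehlerDifferential A B)) =
          Submodule.Quotient.mk ⟨∏ i, x i, by
            simpa using PP16.prod_mem_pow (KaehlerDifferential.ideal A B) Finset.univ x (fun i _ => hx i)⟩ := by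
  classical
  obtain ⟨φ, hφ, hb⟩ := (symGr_of_isDiffSmooth h).2 ι
  obtain ⟨Ψ, hΨ, hΨs⟩ := exists_symEquiv (mulHom A B) (M := KaehlerDifferential A B) (mulHom_algebraMap A B) (smul_kaehler A B) ι
  obtain ⟨e, he, hes⟩ := exists_grEquiv A B (Fintype.card ι)
  refine ⟨{ toFun := fun s => e (φ (Ψ s))
            map_add' := fun s t => by
              rw [map_add Ψ]
              exact (congrArg e (map_add φ _ _)).trans (map_add e _ _)
            map_smul' := fun c s => by
              show e (φ (Ψ (c • s))) = c • e (φ (Ψ s))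
              rw [hΨs]
              exact (congrArg e (map_smul φ _ _)).trans (hes c _) }, e.bijective.comp (hb.comp Ψ.bijective), fun x hx => ?_⟩
  show e (φ (Ψ _)) = _
  rw [hΨ]
  exact (congrArg e (hφ fun i => ⟨x i, hx i⟩)).trans (he _ _)

theorem eq_zero_of_isDiffSmooth (h : PP16.IsDiffSmooth A B) {σ : Type v}
    (b : Module.Basis σ B (KaehlerDifferential A B)) (y : σ → B ⊗[A] B) (hy : ∀ i, y i ∈ KaehlerDifferential.ideal A B)
    (hb : ∀ i, (KaehlerDifferential.ideal A B).toCotangent ⟨y i, hy i⟩ = b i) (k : ℕ) (P : MvPolynomial σ B)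
    (hP : P.IsHomogeneous k) (hm : evy y P ∈ KaehlerDifferential.ideal A B ^ (k + 1)) : P = 0 := by
  classical
  rcases k with _ | k
  · rw [(totalDegree_zero_iff_isHomogeneous σ (p := P)).2 hP |> totalDegree_eq_zero_iff_eq_C.1] at hm ⊢
    rw [zero_add, pow_one, evy, aeval_C] at hm
    have h' : mulHom A B (algebraMap B (B ⊗[A] B) (P.coeff 0)) = 0 := hm
    rw [mulHom_algebraMap] at h'
    rw [h', map_zero]
  · let ι := ULift.{u} (Fin (k + 1))
    obtain ⟨L, hL, hLv⟩ := exists_gr_bijective h ι
    obtain ⟨s, hs⟩ := mem_range_symToPoly b hP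
    subst hs
    rw [hL.1 (a₁ := s) (a₂ := 0) ?_, map_zero]
    rw [gr_eq_evy b y hy hb L hLv s, map_zero, Submodule.Quotient.mk_eq_zero, Submodule.mem_comap]
    show evy y (symToPoly b ι s) ∈ _
    rw [Submodule.restrictScalars_mem]
    simpa [ι] using hm

/-- The monomials of degree at most `m` in `d z_i - z_i` form a basis of `P^m`. -/
theorem exists_basis_P (h : PP16.IsDiffSmooth A B) {ι : Type v} [Fintype ι] (z : ι → B)
    (b : Module.Basis ι B (KaehlerDifferential A B)) (hb : ∀ i, b i = KaehlerDifferential.D A B (z i)) (m : ℕ) :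
    ∃ bP : Module.Basis {p : ι → ℕ // ∑ i, p i ≤ m} B (PP16.P m A B),
      ∀ p, bP p = ∏ i, (PP16.dn m A B (z i) - algebraMap B (PP16.P m A B) (z i)) ^ (p.1 i) := by
  classical
  let y : ι → B ⊗[A] B := fun i => zt (z i)
  have hy : ∀ i, y i ∈ KaehlerDifferential.ideal A B := fun i => KaehlerDifferential.one_smul_sub_smul_one_mem_ideal A (z i)
  have hby : ∀ i, (KaehlerDifferential.ideal A B).toCotangent ⟨y i, hy i⟩ = b i := fun i =>
    ((hb i).trans (KaehlerDifferential.D_apply A B (z i))).symm
  let w : {p : ι → ℕ // ∑ i, p i ≤ m} → PP16.P m A B :=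
    fun p => Ideal.Quotient.mk _ (evy y (monomial (Finsupp.equivFunOnFinite.symm p.1) 1))
  have hw : ∀ p, w p = ∏ i, (PP16.dn m A B (z i) - algebraMap B (PP16.P m A B) (z i)) ^ (p.1 i) := fun p => by
    show Ideal.Quotient.mk _ (evy y (monomial (Finsupp.equivFunOnFinite.symm p.1) 1)) = _
    rw [evy, aeval_monomial, map_one, one_mul, Finsupp.prod_fintype _ _ (fun i => pow_zero _), map_prod]
    refine Finset.prod_congr rfl fun i _ => ?_
    rw [map_pow]
    rfl
  have hli : LinearIndependent B w := by
    rw [linearIndependent_iff']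
    intro t g hg p hp
    let P : MvPolynomial ι B := ∑ q ∈ t, monomial (Finsupp.equivFunOnFinite.symm q.1) (g q)
    have hdeg : P.totalDegree ≤ m := (totalDegree_finsetSum _ _).trans (Finset.sup_le fun q _ =>
      (totalDegree_monomial_le _ _).trans (by rw [Finsupp.sum_fintype _ _ (fun _ => rfl)]; simpa using q.2))
    have hP : evy y P ∈ KaehlerDifferential.ideal A B ^ (m + 1) := by
      rw [← Ideal.Quotient.eq_zero_iff_mem]
      refine Eq.trans ?_ hg
      simp only [P, map_sum, w]
      refine Finset.sum_congr rfl fun q _ => ?_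
      rw [← Ideal.Quotient.mkₐ_eq_mk B, ← map_smul, ← map_smul, smul_monomial, smul_eq_mul, mul_one]
    have h0 := eq_zero_of_evy_mem hy (eq_zero_of_isDiffSmooth h b y hy hby) P hdeg hP
    have h1 := congrArg (fun Q => coeff (Finsupp.equivFunOnFinite.symm p.1) Q) h0
    simp only [P, coeff_sum, coeff_monomial, coeff_zero] at h1
    rw [Finset.sum_eq_single p (fun q _ hq => if_neg fun e => hq (Subtype.ext (Finsupp.equivFunOnFinite.symm.injective e)))
      (fun h' => absurd hp h'), if_pos rfl] at h1
    exact h1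
  have hW : ∀ (k : ℕ), k ≤ m → ∀ P : MvPolynomial ι B, P.IsHomogeneous k →
      Ideal.Quotient.mk (KaehlerDifferential.ideal A B ^ (m + 1)) (evy y P) ∈ Submodule.span B (Set.range w) := by
    intro k hk P hP
    rw [P.as_sum]
    simp only [map_sum]
    refine sum_mem fun d hd => ?_
    rw [← mul_one (P.coeff d), ← smul_eq_mul, ← smul_monomial, map_smul, ← Ideal.Quotient.mkₐ_eq_mk B, map_smul]
    refine Submodule.smul_mem _ _ (Submodule.subset_span ⟨⟨d, ?_⟩, ?_⟩)
    · rw [← Finsupp.degree_eq_sum]
      exact (hP.degree_eq_sum_deg_support hd).symm.le.trans hk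
    · simp [w]
  have hspan : ⊤ ≤ Submodule.span B (Set.range w) := by
    have key : ∀ j, j ≤ m + 1 → ∀ x ∈ KaehlerDifferential.ideal A B ^ (m + 1 - j),
        Ideal.Quotient.mk (KaehlerDifferential.ideal A B ^ (m + 1)) x ∈ Submodule.span B (Set.range w) := by
      intro j
      induction j with
      | zero => intro _ x hx; rw [Ideal.Quotient.eq_zero_iff_mem.2 (by simpa using hx)]; exact zero_mem _
      | succ j ih =>
        intro hj x hx
        obtain ⟨P, hP, hxP⟩ := exists_homogeneous_sub_mem y hy (by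
          rw [show (fun i => ((KaehlerDifferential.ideal A B).toCotangent ⟨y i, hy i⟩ : KaehlerDifferential A B)) = b from funext hby]
          exact b.span_eq) (m + 1 - (j + 1)) x hx
        rw [show x = (x - evy y P) + evy y P by abel, map_add]
        exact add_mem (ih (by omega) _ (by rwa [show m + 1 - (j + 1) + 1 = m + 1 - j by omega] at hxP)) (hW _ (by omega) P hP)
    intro x _
    obtain ⟨x, rfl⟩ := Ideal.Quotient.mk_surjective x
    exact key (m + 1) le_rfl x (by simp)
  exact ⟨Module.Basis.mk hli hspan, fun p => (Module.Basis.mk_apply _ _ p).trans (hw p)⟩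

end Groth.Agent.DiffSmLib
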