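import Groth.Agent.DiffSmLib.Mono

/-! Differential smoothness in characteristic zero. -/

set_option autoImplicit false
set_option linter.style.haveILetI false

universe u v

open TensorProduct MvPolynomial

namespace Groth.Agent.DiffSmLib

variable {A B : Type u} [CommRing A] [CommRing B] [Algebra A B]

/-- A derivation of `B` acting on the second factor. -/
noncomputable def tensorDer (D : Derivation A B B) : Derivation B (B ⊗[A] B) (B ⊗[A] B) :=
  Derivation.mk' ((D : B →ₗ[A] B).baseChange B) fun x y => by
    induction x with
    | zero => simp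
    | add x x' hx hx' =>
      simp only [add_mul, map_add, hx, hx', add_smul, smul_add]
      abel
    | tmul a b =>
      induction y with
      | zero => simp
      | add y y' hy hy' =>
        simp only [mul_add, map_add, hy, hy', add_smul, smul_add]
        abel
      | tmul a' b' =>
        simp only [Algebra.TensorProduct.tmul_mul_tmul, LinearMap.baseChange_tmul, Derivation.coeFn_coe,
          Derivation.leibniz, smul_eq_mul, TensorProduct.tmul_add, mul_comm a' a]

theorem tensorDer_mem {D : Derivation A B B} (k : ℕ) {x : B ⊗[A] B} (hx : x ∈ KaehlerDifferential.ideal A B ^ (k + 1)) :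
    tensorDer D x ∈ KaehlerDifferential.ideal A B ^ k := by
  induction k generalizing x with
  | zero => rw [pow_zero, Ideal.one_eq_top]; trivial
  | succ k ih =>
    rw [pow_succ'] at hx
    refine Submodule.mul_induction_on hx (fun a ha b hb => ?_) fun u w hu hw => by rw [map_add]; exact add_mem hu hw
    rw [Derivation.leibniz, smul_eq_mul, smul_eq_mul]
    refine add_mem ?_ (Ideal.mul_mem_right _ _ hb)
    rw [pow_succ']
    exact Ideal.mul_mem_mul ha (ih hb)

/-- On the ideal of the diagonal a derivation is computed by its linear form. -/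
theorem mulHom_tensorDer (ℓ : KaehlerDifferential A B →ₗ[B] B) {x : B ⊗[A] B} (hx : x ∈ KaehlerDifferential.ideal A B) :
    mulHom A B (tensorDer (ℓ.compDer (KaehlerDifferential.D A B)) x) =
      ℓ ((KaehlerDifferential.ideal A B).toCotangent ⟨x, hx⟩) := by
  suffices H : ∀ z ∈ Ideal.span (Set.range fun s => (1 : B) ⊗ₜ[A] s - s ⊗ₜ[A] (1 : B)),
      ∀ h : z ∈ KaehlerDifferential.ideal A B, mulHom A B (tensorDer (ℓ.compDer (KaehlerDifferential.D A B)) z) =
        ℓ ((KaehlerDifferential.ideal A B).toCotangent ⟨z, h⟩) from
    H x (by rwa [KaehlerDifferential.span_range_eq_ideal]) hx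
  clear hx x
  intro z hgen
  induction hgen using Submodule.span_induction with
  | mem y hy =>
    obtain ⟨s, rfl⟩ := hy
    intro h
    have h1 : ((KaehlerDifferential.ideal A B).toCotangent ⟨_, h⟩ : KaehlerDifferential A B) = KaehlerDifferential.D A B s :=
      (KaehlerDifferential.D_apply A B s).symm
    rw [h1]
    simp [tensorDer, mulHom, LinearMap.compDer]
  | zero => intro h; rw [map_zero, map_zero]; exact (map_zero ℓ).symm.trans (congrArg ℓ (map_zero _).symm)
  | add y z hy hz hy' hz' =>
    intro h
    replace hy := (KaehlerDifferential.span_range_eq_ideal A B).le hy; replace hz := (KaehlerDifferential.span_range_eq_ideal A B).le hz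
    rw [map_add, map_add, hy' hy, hz' hz, ← map_add]
    exact congrArg ℓ (map_add (KaehlerDifferential.ideal A B).toCotangent ⟨y, hy⟩ ⟨z, hz⟩).symm
  | smul r y hy hy' =>
    intro h
    replace hy := (KaehlerDifferential.span_range_eq_ideal A B).le hy
    show mulHom A B (tensorDer (ℓ.compDer (KaehlerDifferential.D A B)) (r * y)) = _
    rw [Derivation.leibniz, map_add, smul_eq_mul, smul_eq_mul, map_mul, map_mul, hy' hy,
      show mulHom A B y = 0 from hy, zero_mul, add_zero, ← smul_eq_mul, ← map_smul, ← smul_kaehler]
    exact congrArg ℓ (map_smul (KaehlerDifferential.ideal A B).toCotangent r ⟨y, hy⟩).symm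

variable {σ : Type v} (b : Module.Basis σ B (KaehlerDifferential A B)) {y : σ → B ⊗[A] B}

/-- The derivation dual to a basis element acts as the partial derivative on the graded pieces. -/
theorem tensorDer_evy_sub (hy : ∀ i, y i ∈ KaehlerDifferential.ideal A B)
    (hb : ∀ i, (KaehlerDifferential.ideal A B).toCotangent ⟨y i, hy i⟩ = b i) (i : σ) {k : ℕ}
    {P : MvPolynomial σ B} (hP : P.IsHomogeneous k) :
    tensorDer ((b.coord i).compDer (KaehlerDifferential.D A B)) (evy y P) - evy y (pderiv i P) ∈
      KaehlerDifferential.ideal A B ^ k := by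
  classical
  set δ := tensorDer ((b.coord i).compDer (KaehlerDifferential.D A B))
  have hmon : ∀ (k : ℕ) (d : σ →₀ ℕ), d.degree = k →
      δ (evy y (monomial d 1)) - evy y (pderiv i (monomial d 1)) ∈ KaehlerDifferential.ideal A B ^ k := by
    intro k
    induction k with
    | zero => intro d _; rw [pow_zero, Ideal.one_eq_top]; trivial
    | succ k ih =>
      intro d hd
      obtain ⟨j, hj⟩ : ∃ j, d j ≠ 0 := by
        by_contra hn
        push Not at hn
        rw [show d = 0 from Finsupp.ext hn, map_zero] at hd
        exact Nat.succ_ne_zero k hd.symm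
      have hsplit : (d - Finsupp.single j 1) + Finsupp.single j 1 = d :=
        tsub_add_cancel_of_le (Finsupp.single_le_iff.2 (Nat.one_le_iff_ne_zero.2 hj))
      set q := d - Finsupp.single j 1
      have hq : q.degree = k := by
        have h2 := congrArg Finsupp.degree hsplit
        rw [map_add, Finsupp.degree_single, hd] at h2
        omega
      have hm : monomial d (1 : B) = monomial q 1 * X j := by rw [X, monomial_mul, one_mul, hsplit]
      have hmem : evy y (monomial q 1) ∈ KaehlerDifferential.ideal A B ^ k :=
        evy_mem_pow y hy (isHomogeneous_monomial _ hq)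
      have hyj : δ (y j) - (if j = i then 1 else 0) ∈ KaehlerDifferential.ideal A B := by
        show _ ∈ RingHom.ker (mulHom A B)
        rw [RingHom.mem_ker, map_sub, mulHom_tensorDer _ (hy j), hb, Module.Basis.coord_apply, Module.Basis.repr_self,
          Finsupp.single_apply]
        split_ifs <;> simp
      rw [hm, map_mul, Derivation.leibniz, Derivation.leibniz, map_add, smul_eq_mul, smul_eq_mul, smul_eq_mul,
        smul_eq_mul, map_mul, map_mul, show evy y (X j) = y j from aeval_X y j, pderiv_X, Pi.single_apply]
      rw [show evy y (monomial q 1) * δ (y j) + y j * δ (evy y (monomial q 1)) -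
          (evy y (monomial q 1) * evy y (if j = i then 1 else 0) + y j * evy y (pderiv i (monomial q 1))) =
          evy y (monomial q 1) * (δ (y j) - (if j = i then 1 else 0)) +
            y j * (δ (evy y (monomial q 1)) - evy y (pderiv i (monomial q 1))) by
        rcases eq_or_ne j i with rfl | h
        · simp only [if_pos, map_one]; ring
        · rw [if_neg h, if_neg h, map_zero]; ring]
      refine add_mem ?_ ?_
      · rw [pow_succ]; exact Ideal.mul_mem_mul hmem hyj
      · rw [pow_succ']; exact Ideal.mul_mem_mul (hy j) (ih q hq)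
  rw [P.as_sum]
  simp only [map_sum, ← Finset.sum_sub_distrib]
  refine sum_mem fun d hd => ?_
  rw [← mul_one (P.coeff d), ← smul_eq_mul, ← smul_monomial, map_smul, Derivation.map_smul, Derivation.map_smul,
    map_smul, ← smul_sub]
  exact Submodule.smul_of_tower_mem _ _ (hmon k d ((hP.degree_eq_sum_deg_support hd).symm))

/-- In characteristic zero the monomials in lifts of a basis are independent. -/
theorem eq_zero_of_charZero [Algebra ℚ B] (hy : ∀ i, y i ∈ KaehlerDifferential.ideal A B)
    (hb : ∀ i, (KaehlerDifferential.ideal A B).toCotangent ⟨y i, hy i⟩ = b i) :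
    ∀ (k : ℕ) (P : MvPolynomial σ B), P.IsHomogeneous k →
      evy y P ∈ KaehlerDifferential.ideal A B ^ (k + 1) → P = 0 := by
  classical
  intro k
  induction k with
  | zero =>
    intro P hP h
    rw [(totalDegree_zero_iff_isHomogeneous σ (p := P)).2 hP |> totalDegree_eq_zero_iff_eq_C.1] at h ⊢
    rw [zero_add, pow_one, evy, aeval_C] at h
    have h' : mulHom A B (algebraMap B (B ⊗[A] B) (P.coeff 0)) = 0 := h
    rw [mulHom_algebraMap] at h'
    rw [h', map_zero]
  | succ k ih =>
    intro P hP h
    have hd : ∀ i, pderiv i P = 0 := fun i => by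
      refine ih _ (by simpa using hP.pderiv) ?_
      have h1 := tensorDer_evy_sub b hy hb i hP
      simpa using sub_mem (tensorDer_mem (D := (b.coord i).compDer (KaehlerDifferential.D A B)) (k + 1) h) h1
    ext d
    rw [coeff_zero]
    by_contra hne
    have hdeg : d.degree = k + 1 := (hP.degree_eq_sum_deg_support (mem_support_iff.2 hne)).symm
    obtain ⟨i, hi⟩ : ∃ i, d i ≠ 0 := by
      by_contra hn
      push Not at hn
      rw [show d = 0 from Finsupp.ext hn, map_zero] at hdeg
      exact Nat.succ_ne_zero k hdeg.symm
    have h2 := congrArg (fun Q => coeff (d - Finsupp.single i 1) Q) (hd i)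
    simp only [coeff_zero, coeff_pderiv] at h2
    rw [tsub_add_cancel_of_le (Finsupp.single_le_iff.2 (Nat.one_le_iff_ne_zero.2 hi))] at h2
    have hu : IsUnit ((((d - Finsupp.single i 1 : σ →₀ ℕ) i : ℕ) : B) + 1) := by
      have h3 : IsUnit (((((d - Finsupp.single i 1 : σ →₀ ℕ) i) + 1 : ℕ) : B)) := by
        rw [← map_natCast (algebraMap ℚ B)]
        exact (IsUnit.mk0 _ (Nat.cast_ne_zero.2 (Nat.succ_ne_zero _))).map _
      rwa [Nat.cast_add, Nat.cast_one] at h3
    exact hne (hu.mul_left_eq_zero.1 h2)

variable (A B) in
theorem isDiffSmooth_of_charZero [Algebra ℚ B] (hΩ : Module.Free B (KaehlerDifferential A B)) :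
    PP16.IsDiffSmooth A B := by
  classical
  refine isDiffSmooth_of_symGr ((projective_iff A B).1 inferInstance) fun ι _ _ => ?_
  let I := KaehlerDifferential.ideal A B
  obtain ⟨φ, hφ, hs⟩ := SymGrLib.exists_surjective_zetaJ I ι
  refine ⟨φ, hφ, ?_, hs⟩
  let b := Module.Free.chooseBasis B (KaehlerDifferential A B)
  choose yy hyy using fun i => I.toCotangent_surjective (b i)
  obtain ⟨Ψ, hΨ, hΨs⟩ := exists_symEquiv (mulHom A B) (M := KaehlerDifferential A B) (mulHom_algebraMap A B) (smul_kaehler A B) ι
  obtain ⟨e, he, hes⟩ := exists_grEquiv A B (Fintype.card ι)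
  let L : SymmetricPower B ι (KaehlerDifferential A B) →ₗ[B] PP16.grI A B (Fintype.card ι) :=
    { toFun := fun s => e (φ (Ψ s))
      map_add' := fun s t => by
        rw [map_add Ψ]
        exact (congrArg e (map_add φ _ _)).trans (map_add e _ _)
      map_smul' := fun c s => by
        show e (φ (Ψ (c • s))) = c • e (φ (Ψ s))
        rw [hΨs]
        exact (congrArg e (map_smul φ _ _)).trans (hes c _) }
  have hinj : Function.Injective L := by
    rw [injective_iff_map_eq_zero]
    intro s hs0
    rw [gr_eq_evy b (fun i => (yy i).1) (fun i => (yy i).2) hyy L (fun x hx => by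
        show e (φ (Ψ _)) = _
        rw [hΨ]
        exact (congrArg e (hφ fun i => ⟨x i, hx i⟩)).trans (he _ _)) s,
      Submodule.Quotient.mk_eq_zero, Submodule.mem_comap] at hs0
    exact symToPoly_injective b ι ((eq_zero_of_charZero b (fun i => (yy i).2) hyy _ _ (symToPoly_homogeneous b ι s) hs0).trans (map_zero _).symm)
  intro s t hst
  obtain ⟨s, rfl⟩ := Ψ.surjective s
  obtain ⟨t, rfl⟩ := Ψ.surjective t
  exact congrArg Ψ (hinj (congrArg e hst))

end Groth.Agent.DiffSmLib
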