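import Groth.Agent.DiffSmLib.Transfer
import Groth.Agent.DiffSmLib.BaseChange
import Mathlib.RingTheory.Kaehler.TensorProduct
import Mathlib.RingTheory.Finiteness.Descent

/-! Differential smoothness descends along faithfully flat base change. -/

set_option autoImplicit false
set_option linter.style.haveILetI false
set_option backward.isDefEq.respectTransparency false

universe u

open TensorProduct

namespace Groth.Agent.DiffSmLib

section modules

variable {B : Type u} [CommRing B] (B' : Type u) [CommRing B'] [Algebra B B'] [Module.FaithfullyFlat B B']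
  (M : Type u) [AddCommGroup M] [Module B M]

/-- Finite presentation descends. -/
theorem finitePresentation_of_tensor [Module.FinitePresentation B' (B' ⊗[B] M)] :
    Module.FinitePresentation B M := by
  haveI : Module.Finite B M := Module.Finite.of_finite_tensorProduct_of_faithfullyFlat B'
  obtain ⟨n, p, hp⟩ := Module.Finite.exists_fin' B M
  have hps : Function.Surjective (p.baseChange B') := LinearMap.lTensor_surjective B' hp
  have hfg := Module.FinitePresentation.fg_ker (p.baseChange B') hps
  have hex : Function.Exact ((LinearMap.ker p).subtype.baseChange B') (p.baseChange B') :=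
    lTensor_exact B' (LinearMap.exact_subtype_ker_map p) hp
  have hinj : Function.Injective ((LinearMap.ker p).subtype.baseChange B') :=
    Module.Flat.lTensor_preserves_injective_linearMap (M := B') _ (LinearMap.ker p).injective_subtype
  rw [LinearMap.exact_iff.1 hex] at hfg
  haveI : Module.Finite B' (B' ⊗[B] LinearMap.ker p) := by
    haveI := Module.Finite.iff_fg.2 hfg
    exact Module.Finite.equiv (LinearEquiv.ofInjective _ hinj).symm
  haveI : Module.Finite B (LinearMap.ker p) := Module.Finite.of_finite_tensorProduct_of_faithfullyFlat B'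
  exact Module.finitePresentation_of_surjective p hp (Module.Finite.iff_fg.1 inferInstance)

/-- Finite projective modules descend. -/
theorem projective_of_tensor [Module.Finite B' (B' ⊗[B] M)] [Module.Projective B' (B' ⊗[B] M)] :
    Module.Projective B M ∧ Module.Finite B M := by
  haveI : Module.FinitePresentation B' (B' ⊗[B] M) := Module.finitePresentation_of_projective _ _
  haveI := finitePresentation_of_tensor (B := B) B' M
  haveI : Module.Flat B M := Module.Flat.of_flat_tensorProduct B M B'
  exact ⟨Module.Flat.projective_of_finitePresentation, inferInstance⟩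

end modules

variable (A B A' B' : Type u) [CommRing A] [CommRing B] [Algebra A B]
  [CommRing A'] [CommRing B'] [Algebra A' B'] [Algebra A A'] [Algebra B B'] [Algebra A B']
  [IsScalarTower A A' B'] [IsScalarTower A B B'] [Algebra.IsPushout A B A' B']

theorem faithfullyFlat_pushout [Module.FaithfullyFlat A A'] : Module.FaithfullyFlat B B' :=
  Module.FaithfullyFlat.of_linearEquiv B (B ⊗[A] A') (Algebra.IsPushout.equiv A B A' B').toLinearEquiv.symm

/-- The maps of graded pieces of the diagonal ideals. -/
theorem exists_grMap (n : ℕ) :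
    letI : Module B (PP16.grI A' B' n) := Module.compHom _ (algebraMap B B')
    ∃ G : PP16.grI A B n →ₗ[B] PP16.grI A' B' n,
      ∀ (y : B ⊗[A] B) (h : y ∈ KaehlerDifferential.ideal A B ^ n)
        (h' : PP16.tensorMap A B A' B' y ∈ KaehlerDifferential.ideal A' B' ^ n),
        G (Submodule.Quotient.mk ⟨y, h⟩) = Submodule.Quotient.mk ⟨PP16.tensorMap A B A' B' y, h'⟩ := by
  letI : Module B (PP16.grI A' B' n) := Module.compHom _ (algebraMap B B')
  have hmem : ∀ (m : ℕ) (y : B ⊗[A] B), y ∈ KaehlerDifferential.ideal A B ^ m →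
      PP16.tensorMap A B A' B' y ∈ KaehlerDifferential.ideal A' B' ^ m := fun m y hy => by
    have h := Ideal.pow_right_mono (n := m) (PP16.ideal_map_tensorMap_le A B A' B')
    rw [← Ideal.map_pow] at h
    exact h (Ideal.mem_map_of_mem _ hy)
  have hsmul : ∀ (b : B) (y : B ⊗[A] B),
      PP16.tensorMap A B A' B' (b • y) = algebraMap B B' b • PP16.tensorMap A B A' B' y := fun b y => by
    rw [Algebra.smul_def, map_mul, Algebra.smul_def, Algebra.TensorProduct.algebraMap_apply,
      PP16.tensorMap_tmul, map_one, Algebra.TensorProduct.algebraMap_apply]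
    rfl
  let F₀ : ↥((KaehlerDifferential.ideal A B ^ n).restrictScalars B) →ₗ[B] PP16.grI A' B' n :=
    { toFun := fun y => Submodule.Quotient.mk ⟨PP16.tensorMap A B A' B' y.1, hmem n y.1 y.2⟩
      map_add' := fun y z => by
        rw [← Submodule.Quotient.mk_add]
        exact congrArg Submodule.Quotient.mk (Subtype.ext (map_add (PP16.tensorMap A B A' B') y.1 z.1))
      map_smul' := fun b y => by
        show _ = algebraMap B B' b • (Submodule.Quotient.mk _ : PP16.grI A' B' n)
        rw [← Submodule.Quotient.mk_smul]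
        exact congrArg Submodule.Quotient.mk (Subtype.ext (hsmul b y.1)) }
  refine ⟨Submodule.liftQ _ F₀ fun y hy => ?_, fun y h h' => rfl⟩
  exact (Submodule.Quotient.mk_eq_zero _).2 (hmem (n + 1) y.1 hy)

theorem zetaProd_map {ι : Type u} [Fintype ι] (b : ι → B)
    (h : ∏ i, ((1 : B) ⊗ₜ[A] b i - b i ⊗ₜ[A] (1 : B)) ∈ KaehlerDifferential.ideal A B ^ Fintype.card ι)
    (h' : PP16.tensorMap A B A' B' (∏ i, ((1 : B) ⊗ₜ[A] b i - b i ⊗ₜ[A] (1 : B))) ∈
      KaehlerDifferential.ideal A' B' ^ Fintype.card ι) :
    (Submodule.Quotient.mk ⟨PP16.tensorMap A B A' B' (∏ i, ((1 : B) ⊗ₜ[A] b i - b i ⊗ₜ[A] (1 : B))), h'⟩ :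
      PP16.grI A' B' (Fintype.card ι)) = PP16.zetaProd A' B' fun i => algebraMap B B' (b i) := by
  refine congrArg Submodule.Quotient.mk (Subtype.ext ?_)
  show PP16.tensorMap A B A' B' _ = _
  rw [map_prod]
  refine Finset.prod_congr rfl fun i _ => ?_
  rw [map_sub, PP16.tensorMap_tmul, PP16.tensorMap_tmul, map_one]

/-- Projective modules have injective base change of symmetric powers. -/
theorem exists_injective_polyMap {ι : Type u} [Fintype ι] [Nonempty ι] (M : Type u) [AddCommGroup M] [Module B M]
    [Module.Projective B M] (hinj : Function.Injective (algebraMap B B')) :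
    ∃ (j : M →ₗ[B] MvPolynomial M B') (θ : SymmetricPower B ι M →ₗ[B] MvPolynomial M B'),
      Function.Injective θ ∧ ∀ x : ι → M, θ (SymmetricPower.tprod B x) = ∏ i, j (x i) := by
  classical
  obtain ⟨sec, hsec⟩ := Module.projective_lifting_property (Finsupp.linearCombination B (id : M → M)) LinearMap.id
    (Finsupp.linearCombination_id_surjective B M)
  let L : SymmetricAlgebra B M →ₐ[B] MvPolynomial M B :=
    SymmetricAlgebra.lift (Finsupp.linearCombination B (MvPolynomial.X (R := B)) ∘ₗ sec)
  let Q : MvPolynomial M B →ₐ[B] SymmetricAlgebra B M := MvPolynomial.aeval fun m => SymmetricAlgebra.ι B M m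
  have hQL : Q.comp L = AlgHom.id B _ := SymmetricAlgebra.algHom_ext (LinearMap.ext fun x => by
    show Q (L (SymmetricAlgebra.ι B M x)) = SymmetricAlgebra.ι B M x
    rw [SymmetricAlgebra.lift_ι_apply, LinearMap.comp_apply]
    show Q.toLinearMap (Finsupp.linearCombination B MvPolynomial.X (sec x)) = _
    rw [Finsupp.apply_linearCombination]
    conv_rhs => rw [← show Finsupp.linearCombination B (id : M → M) (sec x) = x from LinearMap.congr_fun hsec x,
      Finsupp.apply_linearCombination]
    congr 2
    funext m
    simp [Q])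
  have hLinj : Function.Injective L :=
    Function.LeftInverse.injective (g := Q) fun y => AlgHom.congr_fun hQL y
  let κ : MvPolynomial M B →ₐ[B] MvPolynomial M B' := MvPolynomial.mapAlgHom (Algebra.ofId B B')
  have hκ : Function.Injective κ := MvPolynomial.map_injective (algebraMap B B') hinj
  refine ⟨(κ.comp L).toLinearMap ∘ₗ SymmetricAlgebra.ι B M,
    (κ.comp L).toLinearMap ∘ₗ SymGrLib.symToAlg B (C := B) ι, ?_, fun x => ?_⟩
  · refine (injective_iff_map_eq_zero _).2 fun s hs => ?_
    have h0 : SymGrLib.symToAlg B (C := B) ι s = 0 := hLinj (hκ (by rw [map_zero, map_zero]; exact hs))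
    exact SymGrLib.eq_zero_of_symToAlg_mem (C := B) (fun b => ⟨b, rfl⟩) ι s (by rw [h0]; exact Ideal.zero_mem _)
  · show κ (L (SymGrLib.symToAlg B (C := B) ι (SymmetricPower.tprod B x))) = _
    rw [SymGrLib.symToAlg_tprod, map_prod, map_prod]
    rfl

/-- The graded criterion, with values on differentials. -/
theorem injective_of_descent [Module.Projective B (KaehlerDifferential A B)]
    (hinj : Function.Injective (algebraMap B B')) (h : PP16.IsDiffSmooth A' B')
    {ι : Type u} [Fintype ι] [Nonempty ι]
    (φ : SymmetricPower B ι (KaehlerDifferential A B) →ₗ[B] PP16.grI A B (Fintype.card ι))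
    (hφ : ∀ b : ι → B, φ (SymmetricPower.tprod B fun i => KaehlerDifferential.D A B (b i)) = PP16.zetaProd A B b) :
    Function.Injective φ := by
  classical
  haveI : SMulCommClass A' B B' := ⟨fun a b c => by simp only [Algebra.smul_def]; ring⟩
  letI : Module B (PP16.grI A' B' (Fintype.card ι)) := Module.compHom _ (algebraMap B B')
  letI : Module B (SymmetricPower B' ι (KaehlerDifferential A' B')) := Module.compHom _ (algebraMap B B')
  letI : SMul B (PP16.grI A' B' (Fintype.card ι)) := (Module.compHom (PP16.grI A' B' (Fintype.card ι)) (algebraMap B B')).toSMul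
  haveI : IsScalarTower B B' (PP16.grI A' B' (Fintype.card ι)) := IsScalarTower.of_algebraMap_smul fun _ _ => rfl
  haveI : IsScalarTower B B' (SymmetricPower B' ι (KaehlerDifferential A' B')) :=
    IsScalarTower.of_algebraMap_smul fun _ _ => rfl
  obtain ⟨φ', hφ', hb'⟩ := h.2 ι
  obtain ⟨G, hG⟩ := exists_grMap A B A' B' (Fintype.card ι)
  obtain ⟨j, θ, hθ, hθx⟩ := exists_injective_polyMap B B' (ι := ι) (KaehlerDifferential A B) hinj
  let dmap : KaehlerDifferential A B →ₗ[B] KaehlerDifferential A' B' := KaehlerDifferential.map A A' B B'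
  haveI : IsScalarTower B B' (MvPolynomial (KaehlerDifferential A B) B') := inferInstance
  haveI : Algebra.IsPushout A A' B B' := Algebra.IsPushout.symm inferInstance
  let eq := KaehlerDifferential.tensorKaehlerEquiv A A' B B'
  let ℓ : KaehlerDifferential A' B' →ₗ[B'] MvPolynomial (KaehlerDifferential A B) B' :=
    j.liftBaseChange B' ∘ₗ eq.symm.toLinearMap
  have heq : ∀ x, eq ((1 : B') ⊗ₜ[B] x) = dmap x := fun x => by
    have hx : x ∈ Submodule.span B (Set.range (KaehlerDifferential.D A B)) := by
      rw [KaehlerDifferential.span_range_derivation]; trivial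
    induction hx using Submodule.span_induction with
    | mem y hy =>
      obtain ⟨b, rfl⟩ := hy
      rw [KaehlerDifferential.tensorKaehlerEquiv_tmul_D, one_smul]
      exact (KaehlerDifferential.map_D A A' B B' b).symm
    | zero => rw [TensorProduct.tmul_zero, map_zero, map_zero]
    | add y z _ _ hy hz => rw [TensorProduct.tmul_add, map_add, map_add, hy, hz]
    | smul r y _ hy =>
      rw [map_smul dmap, ← hy, ← algebraMap_smul B' r (eq _), ← map_smul eq, TensorProduct.smul_tmul',
        ← TensorProduct.smul_tmul, algebraMap_smul]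
  have hℓ : ∀ x, ℓ (dmap x) = j x := fun x => by
    rw [← heq]
    simp [ℓ, eq]
  let mT : MultilinearMap B (fun _ : ι => KaehlerDifferential A B) (SymmetricPower B' ι (KaehlerDifferential A' B')) :=
    ((SymmetricPower.tprod B' : MultilinearMap B' (fun _ : ι => KaehlerDifferential A' B')
      (SymmetricPower B' ι (KaehlerDifferential A' B'))).restrictScalars B).compLinearMap fun _ => dmap
  let T : SymmetricPower B ι (KaehlerDifferential A B) →ₗ[B] SymmetricPower B' ι (KaehlerDifferential A' B') :=
    SymGrLib.symLift mT fun e x => SymmetricPower.tprod_equiv e fun i => dmap (x i)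
  have hT : ∀ x, T (SymmetricPower.tprod B x) = SymmetricPower.tprod B' fun i => dmap (x i) :=
    fun x => SymGrLib.symLift_tprod _ _ x
  let mΛ : MultilinearMap B' (fun _ : ι => KaehlerDifferential A' B') (MvPolynomial (KaehlerDifferential A B) B') :=
    (MultilinearMap.mkPiAlgebra B' ι _).compLinearMap fun _ => ℓ
  let Λ : SymmetricPower B' ι (KaehlerDifferential A' B') →ₗ[B'] MvPolynomial (KaehlerDifferential A B) B' :=
    SymGrLib.symLift mΛ fun e x => by
      simp only [mΛ, MultilinearMap.compLinearMap_apply, MultilinearMap.mkPiAlgebra_apply]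
      exact Equiv.prod_comp e fun i => ℓ (x i)
  have h1 : (Λ.restrictScalars B).comp T = θ := SymGrLib.symm_ext fun x => by
    rw [LinearMap.comp_apply, LinearMap.restrictScalars_apply, hT, hθx]
    rw [show Λ (SymmetricPower.tprod B' fun i => dmap (x i)) = mΛ fun i => dmap (x i) from SymGrLib.symLift_tprod _ _ _]
    simp [mΛ, hℓ]
  have h2 : G.comp φ = (φ'.restrictScalars B).comp T := by
    refine symm_ext_span _ (KaehlerDifferential.span_range_derivation A B) fun x hx => ?_
    choose b hb using hx
    obtain rfl : x = fun i => KaehlerDifferential.D A B (b i) := funext fun i => (hb i).symm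
    rw [LinearMap.comp_apply, LinearMap.comp_apply, LinearMap.restrictScalars_apply, hφ, hT]
    simp only [dmap, KaehlerDifferential.map_D]
    rw [hφ', PP16.zetaProd]
    have hmem : ∏ i, ((1 : B) ⊗ₜ[A] b i - b i ⊗ₜ[A] (1 : B)) ∈ KaehlerDifferential.ideal A B ^ Fintype.card ι := by
      simpa using PP16.prod_mem_pow (KaehlerDifferential.ideal A B) Finset.univ
        (fun i => (1 : B) ⊗ₜ[A] b i - b i ⊗ₜ[A] (1 : B))
        (fun i _ => KaehlerDifferential.one_smul_sub_smul_one_mem_ideal A (b i))
    have hmem' : PP16.tensorMap A B A' B' (∏ i, ((1 : B) ⊗ₜ[A] b i - b i ⊗ₜ[A] (1 : B))) ∈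
        KaehlerDifferential.ideal A' B' ^ Fintype.card ι := by
      have hh := Ideal.pow_right_mono (n := Fintype.card ι) (PP16.ideal_map_tensorMap_le A B A' B')
      rw [← Ideal.map_pow] at hh
      exact hh (Ideal.mem_map_of_mem _ hmem)
    exact (hG _ hmem hmem').trans (zetaProd_map A B A' B' b hmem hmem')
  intro s t hst
  refine hθ ?_
  rw [← h1, LinearMap.comp_apply, LinearMap.comp_apply]
  have h3 := congrArg G hst
  rw [← LinearMap.comp_apply, ← LinearMap.comp_apply, h2] at h3
  exact congrArg (Λ.restrictScalars B) (hb'.1 h3)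

/-- Differential smoothness descends. -/
theorem isDiffSmooth_descent [Module.FaithfullyFlat A A'] (h : PP16.IsDiffSmooth A' B')
    (hfin : Module.Finite B' (KaehlerDifferential A' B')) :
    PP16.IsDiffSmooth A B ∧ Module.Finite B (KaehlerDifferential A B) := by
  classical
  haveI := faithfullyFlat_pushout A B A' B'
  haveI : SMulCommClass A' B B' := ⟨fun a b c => by simp only [Algebra.smul_def]; ring⟩
  haveI : Algebra.IsPushout A A' B B' := Algebra.IsPushout.symm inferInstance
  let eq := KaehlerDifferential.tensorKaehlerEquiv A A' B B'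
  haveI : Module.Finite B' (B' ⊗[B] KaehlerDifferential A B) := Module.Finite.equiv eq.symm
  haveI : Module.Projective B' (B' ⊗[B] KaehlerDifferential A B) := by
    haveI := h.1
    exact Module.Projective.of_equiv eq.symm
  obtain ⟨hP, hF⟩ := projective_of_tensor (B := B) B' (KaehlerDifferential A B)
  refine ⟨isDiffSmooth_of_symGr ((projective_iff A B).1 hP) fun ι _ _ => ?_, hF⟩
  obtain ⟨φ, hφ, hs⟩ := SymGrLib.exists_surjective_zetaJ (KaehlerDifferential.ideal A B) ι
  refine ⟨φ, hφ, ?_, hs⟩
  obtain ⟨Ψ, hΨ, hΨs⟩ := exists_symEquiv (mulHom A B) (M := KaehlerDifferential A B) (mulHom_algebraMap A B)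
    (smul_kaehler A B) ι
  obtain ⟨e, he, hes⟩ := exists_grEquiv A B (Fintype.card ι)
  let L : SymmetricPower B ι (KaehlerDifferential A B) →ₗ[B] PP16.grI A B (Fintype.card ι) :=
    { toFun := fun s => e (φ (Ψ s))
      map_add' := fun s t => by
        rw [map_add Ψ]
        exact (congrArg e (map_add φ _ _)).trans (map_add e _ _)
      map_smul' := fun b s => by
        show e (φ (Ψ (b • s))) = b • e (φ (Ψ s))
        rw [hΨs]
        exact (congrArg e (map_smul φ _ _)).trans (hes b _) }
  have hL : ∀ b : ι → B, L (SymmetricPower.tprod B fun i => KaehlerDifferential.D A B (b i)) = PP16.zetaProd A B b :=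
    fun b => by
      show e (φ (Ψ _)) = _
      rw [hΨ]
      exact (congrArg e (hφ fun i => ⟨(1 : B) ⊗ₜ[A] b i - b i ⊗ₜ[A] (1 : B),
        KaehlerDifferential.one_smul_sub_smul_one_mem_ideal A (b i)⟩)).trans (he _ _)
  have hLinj := injective_of_descent A B A' B'
    (FaithfulSMul.algebraMap_injective B B') h L hL
  intro z w hzw
  have : L (Ψ.symm z) = L (Ψ.symm w) := by
    show e (φ (Ψ (Ψ.symm z))) = e (φ (Ψ (Ψ.symm w)))
    rw [Ψ.apply_symm_apply, Ψ.apply_symm_apply, hzw]
  exact Ψ.symm.injective (hLinj this)

end Groth.Agent.DiffSmLib
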