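import Groth.Agent.DiffSmLib.Basis
import Groth.Agent.DiffOp.Basic

/-! Divided power operators as the dual basis of the monomials in `1 ⊗ z - z ⊗ 1`. -/

set_option autoImplicit false
set_option linter.style.haveILetI false

universe u v

open TensorProduct MvPolynomial Diff16

namespace Groth.Agent.DiffSmLib

variable {A B : Type u} [CommRing A] [CommRing B] [Algebra A B]

section Lin

variable {N : Type u} [AddCommGroup N] [Module A N] [Module B N] [IsScalarTower A B N]

/-- The linearisation of an operator, as a `B`-linear map. -/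
noncomputable def linB (D : B →ₗ[A] N) : B ⊗[A] B →ₗ[B] N :=
  { linearize A B B N D with
    map_smul' := fun c y => by
      show linearize A B B N D (c • y) = c • linearize A B B N D y
      induction y using TensorProduct.induction_on with
      | zero => simp
      | tmul x y => simp [TensorProduct.smul_tmul', DiffOp.linearize_tmul, mul_smul]
      | add x y hx hy => simp [map_add, smul_add, hx, hy] }

theorem linB_tmul (D : B →ₗ[A] N) (b c : B) : linB D (b ⊗ₜ c) = b • D c := rfl

theorem isDiffOpLE_iff_linB (n : ℕ) (D : B →ₗ[A] N) :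
    IsDiffOpLE A B B N n D ↔ ∀ x ∈ KaehlerDifferential.ideal A B ^ (n + 1), linB D x = 0 := by
  rw [DiffOp.isDiffOpLE_iff']
  constructor
  · intro h x hx
    have := DiffOp.act_apply_eq_linearize D x (1 : B)
    rw [h x hx, ← Algebra.TensorProduct.one_def, mul_one] at this
    exact this.symm
  · intro h x hx
    refine LinearMap.ext fun m => ?_
    rw [DiffOp.act_apply_eq_linearize]
    exact h _ (Ideal.mul_mem_right _ _ hx)

end Lin

theorem coeff_prod_shift {ι : Type v} [Fintype ι] (z : ι → B) (p q : ι → ℕ) :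
    (∏ i, (C (z i) + X i) ^ q i : MvPolynomial ι B).coeff (Finsupp.equivFunOnFinite.symm p) =
      ((∏ i, Nat.choose (q i) (p i) : ℕ) : B) * ∏ i, z i ^ (q i - p i) := by
  classical
  have hterm : ∀ j : ι → ℕ,
      (∏ i, X i ^ j i * C (z i) ^ (q i - j i) * ((Nat.choose (q i) (j i) : ℕ) : MvPolynomial ι B)) =
      monomial (Finsupp.equivFunOnFinite.symm j)
        (((∏ i, Nat.choose (q i) (j i) : ℕ) : B) * ∏ i, z i ^ (q i - j i)) := by
    intro j
    rw [monomial_eq, Finsupp.prod_fintype _ _ (fun i => pow_zero _)]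
    simp only [Finsupp.coe_equivFunOnFinite_symm, map_mul, map_natCast, map_prod, map_pow,
      Finset.prod_mul_distrib, Nat.cast_prod]
    ring
  simp only [add_comm (C (z _)), add_pow, Finset.prod_univ_sum, hterm, coeff_sum, coeff_monomial]
  rw [Finset.sum_eq_single p]
  · rw [if_pos rfl]
  · intro j _ hj
    rw [if_neg fun h => hj (Finsupp.equivFunOnFinite.symm.injective h)]
  · intro hp
    simp only [Fintype.mem_piFinset, Finset.mem_range, not_forall] at hp
    obtain ⟨i, hi⟩ := hp
    rw [if_pos rfl, Finset.prod_eq_zero (Finset.mem_univ i) (Nat.choose_eq_zero_of_lt (by omega)),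
      Nat.cast_zero, zero_mul]

section Span

variable {σ : Type v} {y : σ → B ⊗[A] B}

/-- Every element of `I^n` is, modulo `I^(k+1)`, a polynomial of degrees between `n` and `k`. -/
theorem exists_poly_sub_mem (hy : ∀ i, y i ∈ KaehlerDifferential.ideal A B)
    (hspan : Submodule.span B (Set.range fun i => (KaehlerDifferential.ideal A B).toCotangent ⟨y i, hy i⟩) = ⊤)
    (n : ℕ) : ∀ d, ∀ x ∈ KaehlerDifferential.ideal A B ^ n, ∃ P : MvPolynomial σ B,
      (∀ e, coeff e P ≠ 0 → n ≤ e.degree ∧ e.degree < n + d) ∧ x - evy y P ∈ KaehlerDifferential.ideal A B ^ (n + d) := by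
  intro d
  induction d with
  | zero => exact fun x hx => ⟨0, fun e he => absurd (coeff_zero e) he, by simpa using hx⟩
  | succ d ih =>
    intro x hx
    obtain ⟨P, hP, hxP⟩ := ih x hx
    obtain ⟨Q, hQ, hxQ⟩ := exists_homogeneous_sub_mem y hy hspan (n + d) _ hxP
    refine ⟨P + Q, fun e he => ?_, by rwa [map_add, ← sub_sub, ← add_assoc]⟩
    rw [coeff_add] at he
    by_cases h : coeff e P = 0
    · rw [h, zero_add] at he
      have h1 := hQ.degree_eq_sum_deg_support (mem_support_iff.2 he)
      have h2 : e.degree = n + d := h1.symm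
      omega
    · have := hP e h
      omega

/-- An operator of finite order is determined by its values on the monomials. -/
theorem linB_eq_zero {N : Type u} [AddCommGroup N] [Module A N] [Module B N] [IsScalarTower A B N]
    (hy : ∀ i, y i ∈ KaehlerDifferential.ideal A B)
    (hspan : Submodule.span B (Set.range fun i => (KaehlerDifferential.ideal A B).toCotangent ⟨y i, hy i⟩) = ⊤)
    {m : ℕ} {D : B →ₗ[A] N} (hD : IsDiffOpLE A B B N m D) (n : ℕ)
    (h : ∀ e : σ →₀ ℕ, n ≤ e.degree → e.degree ≤ m → linB D (evy y (monomial e 1)) = 0)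
    {x : B ⊗[A] B} (hx : x ∈ KaehlerDifferential.ideal A B ^ n) : linB D x = 0 := by
  obtain ⟨P, hP, hxP⟩ := exists_poly_sub_mem hy hspan n (m + 1) x hx
  have h0 : linB D (evy y P) = 0 := by
    rw [P.as_sum, map_sum, map_sum]
    refine Finset.sum_eq_zero fun e he => ?_
    rw [← mul_one (P.coeff e), ← smul_eq_mul, ← smul_monomial, map_smul, map_smul]
    by_cases hm : e.degree ≤ m
    · rw [h e (hP e (mem_support_iff.1 he)).1 hm, smul_zero]
    · rw [(isDiffOpLE_iff_linB m D).1 hD _ (Ideal.pow_le_pow_right (by omega : m + 1 ≤ e.degree)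
        (evy_mem_pow y hy (isHomogeneous_monomial _ rfl))), smul_zero]
  have h1 := (isDiffOpLE_iff_linB m D).1 hD _ (Ideal.pow_le_pow_right (by omega : m + 1 ≤ n + (m + 1)) hxP)
  rwa [map_sub, h0, sub_zero] at h1

/-- Independence of the monomials gives differential smoothness. -/
theorem isDiffSmooth_of_indep (b : Module.Basis σ B (KaehlerDifferential A B)) (hy : ∀ i, y i ∈ KaehlerDifferential.ideal A B)
    (hb : ∀ i, (KaehlerDifferential.ideal A B).toCotangent ⟨y i, hy i⟩ = b i)
    (hind : ∀ (k : ℕ) (P : MvPolynomial σ B), P.IsHomogeneous k → evy y P ∈ KaehlerDifferential.ideal A B ^ (k + 1) → P = 0) :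
    PP16.IsDiffSmooth A B := by
  classical
  haveI : Module.Projective B (KaehlerDifferential A B) := Module.Projective.of_basis b
  refine isDiffSmooth_of_symGr ((projective_iff A B).1 inferInstance) fun ι _ _ => ?_
  let I := KaehlerDifferential.ideal A B
  obtain ⟨φ, hφ, hs⟩ := SymGrLib.exists_surjective_zetaJ I ι
  refine ⟨φ, hφ, ?_, hs⟩
  obtain ⟨Ψ, hΨ, hΨs⟩ := exists_symEquiv (mulHom A B) (M := KaehlerDifferential A B) (mulHom_algebraMap A B) (smul_kaehler A B) ι
  obtain ⟨e, he, hes⟩ := exists_grEquiv A B (Fintype.card ι)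
  let L : SymmetricPower B ι (KaehlerDifferential A B) →ₗ[B] PP16.grI A B (Fintype.card ι) :=
    { toFun := fun s => e (φ (Ψ s))
      map_add' := fun s t => by
        rw [map_add Ψ]
        exact (congrArg e (map_add φ _ _)).trans (map_add e _ _)
      map_smul' := fun c s => by
        show e (φ (Ψ (c • s))) = c • e (φ (Ψ s))
        rw [hΨs]
        exact (congrArg e (map_smul φ _ _)).trans (hes c _) }
  have hinj : Function.Injective L := by
    rw [injective_iff_map_eq_zero]
    intro s hs0
    rw [gr_eq_evy b y hy hb L (fun x hx => by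
        show e (φ (Ψ _)) = _
        rw [hΨ]
        exact (congrArg e (hφ fun i => ⟨x i, hx i⟩)).trans (he _ _)) s,
      Submodule.Quotient.mk_eq_zero, Submodule.mem_comap] at hs0
    exact symToPoly_injective b ι ((hind _ _ (symToPoly_homogeneous b ι s) hs0).trans (map_zero _).symm)
  intro s t hst
  obtain ⟨s, rfl⟩ := Ψ.surjective s
  obtain ⟨t, rfl⟩ := Ψ.surjective t
  exact congrArg Ψ (hinj (congrArg e hst))

end Span

variable {ι : Type v} [Fintype ι] (z : ι → B)

theorem zt_mem (i : ι) : zt (A := A) (z i) ∈ KaehlerDifferential.ideal A B :=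
  KaehlerDifferential.one_smul_sub_smul_one_mem_ideal A (z i)

theorem span_zt (hz : Submodule.span B (Set.range fun i => KaehlerDifferential.D A B (z i)) = ⊤) :
    Submodule.span B (Set.range fun i => ((KaehlerDifferential.ideal A B).toCotangent ⟨zt (z i), zt_mem z i⟩ :
      KaehlerDifferential A B)) = ⊤ := by
  refine Eq.trans ?_ hz
  exact congrArg _ (congrArg Set.range (funext fun i => (KaehlerDifferential.D_apply A B (z i)).symm))

variable {z}

/-- The key identity: the operator is the coefficient functional. -/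
theorem linB_evy_eq_coeff (p : ι → ℕ) (D : B →ₗ[A] B)
    (hD : ∀ q : ι → ℕ, D (∏ i, z i ^ q i) = ((∏ i, Nat.choose (q i) (p i) : ℕ) : B) * ∏ i, z i ^ (q i - p i))
    (Q : MvPolynomial ι B) :
    linB D (evy (fun i => zt (z i)) Q) = coeff (Finsupp.equivFunOnFinite.symm p) Q := by
  classical
  let e₁ : MvPolynomial ι B →ₐ[B] B ⊗[A] B := aeval fun i => (1 : B) ⊗ₜ[A] z i
  let sh : MvPolynomial ι B →ₐ[B] MvPolynomial ι B := aeval fun i => C (z i) + X i
  let sh' : MvPolynomial ι B →ₐ[B] MvPolynomial ι B := aeval fun i => X i - C (z i)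
  have hstar : ∀ R, linB D (e₁ R) = coeff (Finsupp.equivFunOnFinite.symm p) (sh R) := by
    intro R
    rw [R.as_sum, map_sum, map_sum, map_sum, coeff_sum]
    refine Finset.sum_congr rfl fun d _ => ?_
    rw [← mul_one (R.coeff d), ← smul_eq_mul, ← smul_monomial, map_smul, map_smul, map_smul, coeff_smul]
    congr 1
    rw [aeval_monomial, aeval_monomial, map_one, map_one, one_mul, one_mul, Finsupp.prod_fintype _ _ (fun i => pow_zero _),
      Finsupp.prod_fintype _ _ (fun i => pow_zero _), coeff_prod_shift]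
    have hprod : ∏ i, ((1 : B) ⊗ₜ[A] z i) ^ d i = (1 : B) ⊗ₜ[A] ∏ i, z i ^ d i := by
      show ∏ i, ((Algebra.TensorProduct.includeRight : B →ₐ[A] B ⊗[A] B) (z i)) ^ d i = _
      simp only [← map_pow, ← map_prod]
      rfl
    rw [hprod, linB_tmul, one_smul, hD]
  have h1 : e₁.comp sh' = evy (fun i => zt (A := A) (z i)) := algHom_ext fun i => by
    simp [e₁, sh', evy, zt, Algebra.TensorProduct.algebraMap_apply]
  have h2 : sh.comp sh' = AlgHom.id B _ := algHom_ext fun i => by simp [sh, sh']
  rw [← h1, AlgHom.comp_apply, hstar, ← AlgHom.comp_apply, h2, AlgHom.id_apply]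

variable (hz : Submodule.span B (Set.range fun i => KaehlerDifferential.D A B (z i)) = ⊤)
  (Dp : (ι → ℕ) → (B →ₗ[A] B)) (hD : ∀ p, ∃ k : ℕ, IsDiffOpLE A B B B k (Dp p))
  (hDz : ∀ p q : ι → ℕ, Dp p (∏ i, z i ^ q i) =
    ((∏ i, Nat.choose (q i) (p i) : ℕ) : B) * ∏ i, z i ^ (q i - p i))

include hz hD hDz in
theorem order_le (p : ι → ℕ) : IsDiffOpLE A B B B (∑ i, p i) (Dp p) := by
  classical
  obtain ⟨k, hk⟩ := hD p
  rw [isDiffOpLE_iff_linB]
  intro x hx
  refine linB_eq_zero (fun i => zt_mem z i) (span_zt z hz) hk _ (fun e he _ => ?_) hx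
  rw [linB_evy_eq_coeff p _ (hDz p), coeff_monomial, if_neg]
  intro h
  rw [h, Finsupp.degree_eq_sum] at he
  simp at he

include hz hD hDz in
theorem indep (k : ℕ) (P : MvPolynomial ι B) (hP : P.IsHomogeneous k)
    (h : evy (fun i => zt (z i)) P ∈ KaehlerDifferential.ideal A B ^ (k + 1)) : P = 0 := by
  ext d
  rw [coeff_zero]
  by_contra hne
  have hdeg : ∑ i, d i = k := by
    rw [← Finsupp.degree_eq_sum]
    exact (hP.degree_eq_sum_deg_support (mem_support_iff.2 hne)).symm
  have h1 := linB_evy_eq_coeff (⇑d) _ (hDz d) P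
  rw [(isDiffOpLE_iff_linB _ _).1 (order_le hz Dp hD hDz d) _ (by rwa [hdeg]), Finsupp.equivFunOnFinite_symm_coe] at h1
  exact hne h1.symm

include hz hD hDz in
theorem exists_basis_of_dividedPower :
    ∃ b : Module.Basis ι B (KaehlerDifferential A B), ∀ i, b i = KaehlerDifferential.D A B (z i) := by
  classical
  have hli : LinearIndependent B fun i => KaehlerDifferential.D A B (z i) := by
    rw [Fintype.linearIndependent_iff]
    intro c hc i
    let P : MvPolynomial ι B := ∑ j, c j • X j
    have hP : P.IsHomogeneous 1 := IsHomogeneous.sum _ _ _ fun j _ => by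
      rw [smul_eq_C_mul]; exact (isHomogeneous_X B j).C_mul _
    have hI : evy (fun i => zt (z i)) P ∈ KaehlerDifferential.ideal A B ^ 2 := by
      have h0 : (KaehlerDifferential.ideal A B).toCotangent (∑ j, c j • (⟨zt (z j), zt_mem z j⟩ : KaehlerDifferential.ideal A B)) = 0 := by
        rw [map_sum]
        simp only [LinearMap.map_smul_of_tower]
        refine Eq.trans ?_ hc
        exact Finset.sum_congr rfl fun j _ => congrArg (c j • ·) (KaehlerDifferential.D_apply A B (z j)).symm
      simpa [P, evy] using ((KaehlerDifferential.ideal A B).toCotangent_eq_zero _).1 h0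
    have := congrArg (coeff (Finsupp.single i 1)) (indep hz Dp hD hDz 1 P hP hI)
    rw [coeff_zero] at this
    simp only [P, coeff_sum, coeff_smul, smul_eq_mul] at this
    rw [Finset.sum_eq_single i (fun j _ hj => by rw [coeff_X', if_neg (fun h => hj ((Finsupp.single_left_inj one_ne_zero).1 h)), mul_zero])
      (fun h => absurd (Finset.mem_univ i) h), coeff_X', if_pos rfl, mul_one] at this
    exact this
  exact ⟨Module.Basis.mk hli hz.ge, fun i => Module.Basis.mk_apply _ _ i⟩

include hz hD hDz in
theorem isDiffSmooth_of_dividedPower : PP16.IsDiffSmooth A B := by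
  obtain ⟨b, hb⟩ := exists_basis_of_dividedPower hz Dp hD hDz
  exact isDiffSmooth_of_indep b (fun i => zt_mem z i)
    (fun i => ((hb i).trans (KaehlerDifferential.D_apply A B (z i))).symm) (indep hz Dp hD hDz)

include hz hD hDz in
/-- Every operator of order at most `m` is uniquely a combination of the divided powers. -/
theorem existsUnique_combination (m : ℕ) (D : B →ₗ[A] B) (hDm : IsDiffOpLE A B B B m D) :
    ∃! a : {p : ι → ℕ // ∑ i, p i ≤ m} →₀ B, D = a.sum fun p c => c • Dp p.1 := by
  classical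
  haveI : Finite {p : ι → ℕ // ∑ i, p i ≤ m} :=
    Finite.of_injective (fun p i => (⟨p.1 i, Nat.lt_succ_of_le ((Finset.single_le_sum (fun j _ => Nat.zero_le (p.1 j))
      (Finset.mem_univ i)).trans p.2)⟩ : Fin (m + 1))) fun p q h => Subtype.ext (funext fun i => congrArg Fin.val (congrFun h i))
  haveI := Fintype.ofFinite {p : ι → ℕ // ∑ i, p i ≤ m}
  let M : (ι → ℕ) → B ⊗[A] B := fun p => evy (fun i => zt (z i)) (monomial (Finsupp.equivFunOnFinite.symm p) 1)
  let lsum : ({p : ι → ℕ // ∑ i, p i ≤ m} →₀ B) → (B →ₗ[A] B) := fun a => a.sum fun p c => c • Dp p.1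
  have hlin : ∀ (a : {p : ι → ℕ // ∑ i, p i ≤ m} →₀ B) (q : {p : ι → ℕ // ∑ i, p i ≤ m}),
      linB (lsum a) (M q.1) = a q := by
    intro a q
    have hsum : ∀ x, linB (lsum a) x = ∑ p, a p * linB (Dp p.1) x := by
      intro x
      induction x using TensorProduct.induction_on with
      | zero => simp
      | add x y hx hy => simp only [map_add, hx, hy, mul_add, Finset.sum_add_distrib]
      | tmul b c =>
        simp only [linB_tmul, lsum]
        rw [Finsupp.sum_fintype _ _ (fun i => by simp), LinearMap.sum_apply, Finset.smul_sum]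
        exact Finset.sum_congr rfl fun p _ => by simp [mul_left_comm]
    rw [hsum, Finset.sum_eq_single q (fun p _ hp => by
      rw [linB_evy_eq_coeff p.1 _ (hDz p.1), coeff_monomial,
        if_neg fun h => hp (Subtype.ext (Finsupp.equivFunOnFinite.symm.injective h).symm), mul_zero])
      (fun h => absurd (Finset.mem_univ q) h), linB_evy_eq_coeff q.1 _ (hDz q.1), coeff_monomial, if_pos rfl, mul_one]
  have hle : ∀ a, IsDiffOpLE A B B B m (lsum a) := fun a => by
    refine Finset.sum_induction _ (IsDiffOpLE A B B B m) (fun _ _ h h' => h.add h') (DiffOp.isDiffOpLE_zero m) fun p _ => ?_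
    exact ((order_le hz Dp hD hDz p.1).mono p.2).smul _
  let a₀ : {p : ι → ℕ // ∑ i, p i ≤ m} →₀ B := Finsupp.equivFunOnFinite.symm fun p => linB D (M p.1)
  refine ⟨a₀, ?_, fun a ha => Finsupp.ext fun q => ?_⟩
  · show D = lsum a₀
    rw [← sub_eq_zero]
    refine LinearMap.ext fun c => ?_
    have hsub : ∀ x, linB (D - lsum a₀) x = linB D x - linB (lsum a₀) x := fun x => by
      induction x using TensorProduct.induction_on with
      | zero => simp
      | add x y hx hy => simp only [map_add, hx, hy]; abel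
      | tmul b c => simp [linB_tmul, mul_sub]
    have h := linB_eq_zero (fun i => zt_mem z i) (span_zt z hz) (hDm.sub (hle a₀)) 0 (fun e _ he => by
      have he' : ∑ i, e i ≤ m := by rwa [← Finsupp.degree_eq_sum]
      have h2 := hlin a₀ ⟨⇑e, he'⟩
      simp only [M, Finsupp.equivFunOnFinite_symm_coe] at h2
      rw [hsub, h2]
      simp [a₀, M]) (x := (1 : B) ⊗ₜ[A] c) (by simp)
    rwa [linB_tmul, one_smul] at h
  · rw [show a₀ q = linB D (M q.1) from rfl, show D = lsum a from ha, hlin a q]

/-- Existence of the divided power operators on a differentially smooth algebra. -/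
theorem exists_dividedPower (h : PP16.IsDiffSmooth A B) (b : Module.Basis ι B (KaehlerDifferential A B))
    (hb : ∀ i, b i = KaehlerDifferential.D A B (z i)) (p : ι → ℕ) :
    ∃ D : B →ₗ[A] B, IsDiffOpLE A B B B (∑ i, p i) D ∧
      ∀ q : ι → ℕ, D (∏ i, z i ^ q i) = ((∏ i, Nat.choose (q i) (p i) : ℕ) : B) * ∏ i, z i ^ (q i - p i) := by
  classical
  obtain ⟨bP, hbP⟩ := exists_basis_P h z b hb (∑ i, p i)
  let mkP : B ⊗[A] B →ₐ[B] PP16.P (∑ i, p i) A B := Ideal.Quotient.mkₐ B _
  let u : PP16.P (∑ i, p i) A B →ₗ[B] B := bP.coord ⟨p, le_rfl⟩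
  let D : B →ₗ[A] B := (u.restrictScalars A).comp (PP16.dn (∑ i, p i) A B).toLinearMap
  have hlinD : ∀ x, linB D x = u (mkP x) := fun x => by
    induction x using TensorProduct.induction_on with
    | zero => simp
    | add x y hx hy => simp only [map_add, hx, hy]
    | tmul a c =>
      rw [linB_tmul, show (a ⊗ₜ[A] c : B ⊗[A] B) = a • ((1 : B) ⊗ₜ[A] c) by rw [TensorProduct.smul_tmul', smul_eq_mul, mul_one],
        map_smul, map_smul]
      rfl
  have hu : ∀ e : ι →₀ ℕ, u (mkP (evy (fun i => zt (z i)) (monomial e 1))) = if Finsupp.equivFunOnFinite.symm p = e then 1 else 0 := by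
    intro e
    by_cases he : ∑ i, e i ≤ ∑ i, p i
    · have h1 : mkP (evy (fun i => zt (z i)) (monomial e 1)) = bP ⟨⇑e, he⟩ := by
        rw [hbP, evy, aeval_monomial, map_one, one_mul, Finsupp.prod_fintype _ _ (fun i => pow_zero _), map_prod]
        refine Finset.prod_congr rfl fun i _ => ?_
        rw [map_pow]
        rfl
      rw [h1, Module.Basis.coord_apply, Module.Basis.repr_self, Finsupp.single_apply]
      refine if_congr ?_ rfl rfl
      rw [Subtype.mk.injEq, eq_comm]
      exact ⟨fun h => by rw [h]; simp, fun h => by rw [← h]; simp⟩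
    · have h1 : mkP (evy (fun i => zt (z i)) (monomial e 1)) = 0 := Ideal.Quotient.eq_zero_iff_mem.2
        (Ideal.pow_le_pow_right (show ∑ i, p i + 1 ≤ e.degree by rw [Finsupp.degree_eq_sum]; omega)
          (evy_mem_pow _ (fun i => zt_mem z i) (isHomogeneous_monomial _ rfl)))
      rw [h1, map_zero, if_neg]
      intro h2
      exact he (by rw [← h2]; simp)
  have hcoeff : ∀ Q, u (mkP (evy (fun i => zt (z i)) Q)) = coeff (Finsupp.equivFunOnFinite.symm p) Q := by
    intro Q
    rw [Q.as_sum, map_sum, map_sum, map_sum, coeff_sum]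
    refine Finset.sum_congr rfl fun e _ => ?_
    rw [← mul_one (Q.coeff e), ← smul_eq_mul, ← smul_monomial, map_smul, map_smul, map_smul, hu, coeff_smul, coeff_monomial]
    simp [eq_comm]
  refine ⟨D, (isDiffOpLE_iff_linB _ D).2 fun x hx => ?_, fun q => ?_⟩
  · rw [hlinD, show mkP x = 0 from Ideal.Quotient.eq_zero_iff_mem.2 hx, map_zero]
  · have h1 : evy (fun i => zt (A := A) (z i)) (∏ i, (C (z i) + X i) ^ q i) = (1 : B) ⊗ₜ[A] ∏ i, z i ^ q i := by
      rw [map_prod]
      show _ = (Algebra.TensorProduct.includeRight : B →ₐ[A] B ⊗[A] B) (∏ i, z i ^ q i)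
      rw [map_prod]
      refine Finset.prod_congr rfl fun i _ => ?_
      rw [map_pow, map_pow]
      simp [evy, zt, Algebra.TensorProduct.algebraMap_apply]
    rw [← one_smul B (D _), ← linB_tmul, hlinD, ← h1, hcoeff, coeff_prod_shift]

end Groth.Agent.DiffSmLib
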