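import Groth.Agent.DiffSmLib.Transfer

/-! Finiteness of the rings of principal parts. -/

set_option autoImplicit false

universe u

open TensorProduct

namespace Groth.Agent.DiffSmLib

variable (n : ℕ) (A B : Type u) [CommRing A] [CommRing B] [Algebra A B]

instance isIntegral_P : Algebra.IsIntegral B (PP16.P n A B) := ⟨fun x => by
  obtain ⟨r, rfl⟩ := Ideal.Quotient.mk_surjective x
  refine ⟨(Polynomial.X - Polynomial.C (mulHom A B r)) ^ (n + 1),
    (Polynomial.monic_X_sub_C _).pow _, ?_⟩
  rw [Polynomial.eval₂_pow, Polynomial.eval₂_sub, Polynomial.eval₂_X, Polynomial.eval₂_C]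
  show (Ideal.Quotient.mk _ r - Ideal.Quotient.mk _ (algebraMap B (B ⊗[A] B) (mulHom A B r))) ^ (n + 1) = 0
  rw [← map_sub, ← map_pow, Ideal.Quotient.eq_zero_iff_mem]
  exact Ideal.pow_mem_pow (sub_algebraMap_mem A B r) _⟩

theorem finite_P [Algebra.FiniteType A B] : Module.Finite B (PP16.P n A B) :=
  haveI : Algebra.FiniteType B (PP16.P n A B) :=
    Algebra.FiniteType.of_surjective (Ideal.Quotient.mkₐ B _) Ideal.Quotient.mk_surjective
  Algebra.IsIntegral.finite

theorem span_range_dn : Submodule.span B (Set.range (PP16.dn n A B)) = ⊤ := by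
  refine eq_top_iff.2 fun x _ => ?_
  obtain ⟨r, rfl⟩ := Ideal.Quotient.mk_surjective x
  induction r with
  | zero => rw [map_zero]; exact zero_mem _
  | add r s hr hs => rw [map_add]; exact add_mem (hr trivial) (hs trivial)
  | tmul a b =>
    rw [show Ideal.Quotient.mk (KaehlerDifferential.ideal A B ^ (n + 1)) (a ⊗ₜ[A] b) = a • PP16.dn n A B b from by
      show _ = a • Ideal.Quotient.mk (KaehlerDifferential.ideal A B ^ (n + 1)) ((1 : B) ⊗ₜ[A] b)
      show Ideal.Quotient.mkₐ B _ (a ⊗ₜ[A] b) = a • Ideal.Quotient.mkₐ B _ ((1 : B) ⊗ₜ[A] b)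
      rw [← map_smul, TensorProduct.smul_tmul', smul_eq_mul, mul_one]]
    exact Submodule.smul_mem _ _ (Submodule.subset_span ⟨b, rfl⟩)

theorem finitePresentation_P [Algebra.FinitePresentation A B] : Module.FinitePresentation B (PP16.P n A B) :=
  haveI := finite_P n A B
  haveI : Algebra.FinitePresentation B (PP16.P n A B) :=
    Algebra.FinitePresentation.quotient ((KaehlerDifferential.ideal_fg A B).pow)
  Module.FinitePresentation.of_finite_of_finitePresentation B (PP16.P n A B)

end Groth.Agent.DiffSmLib
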