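import Groth.Agent.SymGrLib.Compare
import Groth.Prelude.Def_PP16

/-! Differential smoothness in terms of the symmetric algebra of the ideal of the diagonal. -/

set_option autoImplicit false
set_option linter.style.haveILetI false
set_option backward.isDefEq.respectTransparency false

universe u

open TensorProduct

namespace Groth.Agent.DiffSmLib

section Generic

variable {B R : Type u} [CommRing B] [CommRing R] [Algebra B R] (μ : R →+* B)
  {M : Type u} [AddCommGroup M] [Module R M] [Module B M] [IsScalarTower B R M]

/-- Symmetric powers do not change along a retraction of rings compatible with the actions. -/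
theorem exists_symEquiv (hμ : ∀ b, μ (algebraMap B R b) = b) (hM : ∀ (r : R) (m : M), r • m = μ r • m)
    (ι : Type u) [Fintype ι] [Nonempty ι] :
    ∃ Ψ : SymmetricPower B ι M ≃+ SymmetricPower R ι M,
      (∀ x, Ψ (SymmetricPower.tprod B x) = SymmetricPower.tprod R x) ∧
        ∀ (b : B) s, Ψ (b • s) = algebraMap B R b • Ψ s := by
  classical
  letI : Module B (SymmetricPower R ι M) := Module.compHom _ (algebraMap B R)
  haveI : IsScalarTower B R (SymmetricPower R ι M) := IsScalarTower.of_algebraMap_smul fun _ _ => rfl
  letI : Module R (SymmetricPower B ι M) := Module.compHom _ μ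
  let m₁ : MultilinearMap B (fun _ : ι => M) (SymmetricPower R ι M) :=
    (SymmetricPower.tprod R : MultilinearMap R (fun _ : ι => M) (SymmetricPower R ι M)).restrictScalars B
  let f : SymmetricPower B ι M →ₗ[B] SymmetricPower R ι M :=
    SymGrLib.symLift m₁ fun e x => SymmetricPower.tprod_equiv e x
  let m₂ : MultilinearMap R (fun _ : ι => M) (SymmetricPower B ι M) :=
    { toFun := fun x => SymmetricPower.tprod B x
      map_update_add' := fun x i a b => MultilinearMap.map_update_add _ x i a b
      map_update_smul' := fun x i r a => by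
        rw [hM r a]
        exact MultilinearMap.map_update_smul _ x i (μ r) a }
  let g : SymmetricPower R ι M →ₗ[R] SymmetricPower B ι M :=
    SymGrLib.symLift m₂ fun e x => SymmetricPower.tprod_equiv e x
  have hfx : ∀ x, f (SymmetricPower.tprod B x) = SymmetricPower.tprod R x := fun x => SymGrLib.symLift_tprod _ _ x
  have hgx : ∀ x, g (SymmetricPower.tprod R x) = SymmetricPower.tprod B x := fun x => SymGrLib.symLift_tprod _ _ x
  have hg : ∀ (b : B) s, g (b • s) = b • g s := fun b s =>
    (map_smul g (algebraMap B R b) s).trans (show μ (algebraMap B R b) • g s = _ by rw [hμ])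
  let g' : SymmetricPower R ι M →ₗ[B] SymmetricPower B ι M := { g with map_smul' := hg }
  have h1 : g'.comp f = LinearMap.id := SymGrLib.symm_ext fun x => by
    rw [LinearMap.comp_apply, LinearMap.id_apply]
    exact (congrArg g (hfx x)).trans (hgx x)
  have hf : ∀ (r : R) s, f (r • s) = r • f s := by
    intro r s
    have hk : ∀ z : SymmetricPower R ι M, (r - algebraMap B R (μ r)) • z = 0 :=
      SymGrLib.smul_eq_zero _ fun m => by rw [hM, map_sub, hμ, sub_self, zero_smul]
    have h2 := hk (f s)
    rw [sub_smul, sub_eq_zero] at h2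
    rw [h2]
    exact map_smul f (μ r) s
  let f' : SymmetricPower B ι M →ₗ[R] SymmetricPower R ι M := { f with map_smul' := hf }
  have h2 : f'.comp g = LinearMap.id := SymGrLib.symm_ext fun x => by
    rw [LinearMap.comp_apply, LinearMap.id_apply]
    exact (congrArg f (hgx x)).trans (hfx x)
  exact ⟨{ toFun := f, invFun := g, left_inv := LinearMap.congr_fun h1, right_inv := LinearMap.congr_fun h2,
           map_add' := map_add f }, hfx, fun b s => map_smul f b s⟩

omit [CommRing R] [Algebra B R] [Module R M] [IsScalarTower B R M] in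
/-- Linear maps out of a symmetric power agree when they do on tensors of generators. -/
theorem symm_ext_span (G : Set M) (hG : Submodule.span B G = ⊤) {ι : Type u} [Fintype ι] {N : Type u} [AddCommGroup N]
    [Module B N] {f g : SymmetricPower B ι M →ₗ[B] N}
    (h : ∀ x : ι → M, (∀ i, x i ∈ G) → f (SymmetricPower.tprod B x) = g (SymmetricPower.tprod B x)) : f = g := by
  classical
  have key : ∀ (s : Finset ι) (x : ι → M), (∀ i ∉ s, x i ∈ G) →
      f (SymmetricPower.tprod B x) = g (SymmetricPower.tprod B x) := by
    intro s
    induction s using Finset.induction_on with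
    | empty => exact fun x hx => h x fun i => hx i (Finset.notMem_empty i)
    | insert a s _ ih =>
      intro x hx
      have hK : ∀ y ∈ Submodule.span B G,
          f (SymmetricPower.tprod B (Function.update x a y)) = g (SymmetricPower.tprod B (Function.update x a y)) := by
        intro y hy
        induction hy using Submodule.span_induction with
        | mem y hy =>
          refine ih _ fun i hi => ?_
          by_cases hia : i = a
          · subst hia; rwa [Function.update_self]
          · rw [Function.update_of_ne hia]; exact hx i (by simp [hia, hi])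
        | zero => rw [MultilinearMap.map_update_zero, map_zero, map_zero]
        | add y z _ _ hy hz => rw [MultilinearMap.map_update_add, map_add, map_add, hy, hz]
        | smul b y _ hy => rw [MultilinearMap.map_update_smul, map_smul, map_smul, hy]
      have := hK (x a) (hG ▸ Submodule.mem_top)
      rwa [Function.update_eq_self] at this
  exact SymGrLib.symm_ext fun x => key Finset.univ x fun i hi => absurd (Finset.mem_univ i) hi

end Generic

variable (A B : Type u) [CommRing A] [CommRing B] [Algebra A B]

/-- The multiplication `B ⊗ B → B`. -/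
noncomputable abbrev mulHom : (B ⊗[A] B) →+* B := (Algebra.TensorProduct.lmul' A : B ⊗[A] B →ₐ[A] B).toRingHom

theorem mulHom_algebraMap (b : B) : mulHom A B (algebraMap B (B ⊗[A] B) b) = b := by
  simp [mulHom, Algebra.TensorProduct.algebraMap_apply]

theorem sub_algebraMap_mem (r : B ⊗[A] B) : r - algebraMap B (B ⊗[A] B) (mulHom A B r) ∈ KaehlerDifferential.ideal A B := by
  show (r - algebraMap B (B ⊗[A] B) (mulHom A B r)) ∈ RingHom.ker (mulHom A B)
  rw [RingHom.mem_ker, map_sub, mulHom_algebraMap, sub_self]

theorem smul_kaehler (r : B ⊗[A] B) (m : KaehlerDifferential A B) : r • m = mulHom A B r • m := by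
  have h := Ideal.Cotangent.smul_eq_zero_of_mem (sub_algebraMap_mem A B r) (show (KaehlerDifferential.ideal A B).Cotangent from m)
  rw [sub_smul, sub_eq_zero] at h
  exact h.trans (algebraMap_smul (B ⊗[A] B) (mulHom A B r) m)

/-- The graded pieces of the diagonal ideal, with both module structures. -/
theorem exists_grEquiv (n : ℕ) :
    ∃ e : PP16.grJ (B ⊗[A] B) (KaehlerDifferential.ideal A B) n ≃+ PP16.grI A B n,
      (∀ (y : B ⊗[A] B) (h : y ∈ KaehlerDifferential.ideal A B ^ n),
        e (Submodule.Quotient.mk ⟨y, h⟩) = Submodule.Quotient.mk ⟨y, h⟩) ∧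
      ∀ (b : B) z, e (algebraMap B (B ⊗[A] B) b • z) = b • e z := by
  let e : PP16.grJ (B ⊗[A] B) (KaehlerDifferential.ideal A B) n ≃+ PP16.grI A B n :=
    { toFun := Quotient.map' (fun y => (⟨y.1, y.2⟩ : ↥((KaehlerDifferential.ideal A B ^ n).restrictScalars B)))
        fun x y h => by
          rw [Submodule.quotientRel_def] at h ⊢
          exact h
      invFun := Quotient.map' (fun y => (⟨y.1, y.2⟩ : ↥(KaehlerDifferential.ideal A B ^ n)))
        fun x y h => by
          rw [Submodule.quotientRel_def] at h ⊢
          exact h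
      left_inv := fun z => by induction z using Quotient.inductionOn'; rfl
      right_inv := fun z => by induction z using Quotient.inductionOn'; rfl
      map_add' := fun z w => by
        induction z using Quotient.inductionOn'
        induction w using Quotient.inductionOn'
        rfl }
  refine ⟨e, fun _ _ => rfl, fun b z => ?_⟩
  induction z using Quotient.inductionOn' with
  | _ z =>
    refine congrArg Submodule.Quotient.mk (Subtype.ext ?_)
    exact algebraMap_smul (B ⊗[A] B) b (z : B ⊗[A] B)

/-- The quotient by the ideal of the diagonal is `B`. -/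
theorem projective_iff :
    Module.Projective B (KaehlerDifferential A B) ↔
      Module.Projective ((B ⊗[A] B) ⧸ KaehlerDifferential.ideal A B) (KaehlerDifferential.ideal A B).Cotangent := by
  let I := KaehlerDifferential.ideal A B
  let e : B ≃+* (B ⊗[A] B) ⧸ I :=
    RingEquiv.ofRingHom ((Ideal.Quotient.mk I).comp (algebraMap B (B ⊗[A] B)))
      (Ideal.Quotient.lift I (mulHom A B) fun r hr => hr)
      (Ideal.Quotient.ringHom_ext <| RingHom.ext fun r => (Ideal.Quotient.eq.2 (sub_algebraMap_mem A B r)).symm)
      (RingHom.ext fun b => mulHom_algebraMap A B b)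
  letI := RingHomInvPair.of_ringEquiv e
  letI := RingHomInvPair.of_ringEquiv_symm e
  let f : KaehlerDifferential A B ≃ₛₗ[(e : B →+* ((B ⊗[A] B) ⧸ I))] I.Cotangent :=
    { AddEquiv.refl _ with
      map_smul' := fun b m => by
        show (b • m : KaehlerDifferential A B) = Ideal.Quotient.mk I (algebraMap B (B ⊗[A] B) b) • (show I.Cotangent from m)
        exact (algebraMap_smul (B ⊗[A] B) b m).symm }
  exact ⟨fun _ => Module.Projective.of_equiv f, fun _ => Module.Projective.of_equiv f.symm⟩

variable {A B}

theorem isDiffSmooth_of_symGr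
    (hP : Module.Projective ((B ⊗[A] B) ⧸ KaehlerDifferential.ideal A B) (KaehlerDifferential.ideal A B).Cotangent)
    (hS : PP16.SymGrBijective (B ⊗[A] B) (KaehlerDifferential.ideal A B)) : PP16.IsDiffSmooth A B := by
  classical
  refine ⟨(projective_iff A B).2 hP, fun ι _ => ?_⟩
  rcases isEmpty_or_nonempty ι with hι | hι
  · let φ : SymmetricPower B ι (KaehlerDifferential A B) →ₗ[B] PP16.grI A B (Fintype.card ι) :=
      SymGrLib.symLift (MultilinearMap.constOfIsEmpty B _ (PP16.zetaProd A B fun i => isEmptyElim i)) fun _ _ => rfl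
    have hφ : ∀ b : ι → B, φ (SymmetricPower.tprod B fun i => KaehlerDifferential.D A B (b i)) = PP16.zetaProd A B b := fun b => by
      rw [Subsingleton.elim b fun i => isEmptyElim i]
      exact SymGrLib.symLift_tprod _ _ _
    let t₀ : SymmetricPower B ι (KaehlerDifferential A B) := SymmetricPower.tprod B isEmptyElim
    have ht : ∀ s : SymmetricPower B ι (KaehlerDifferential A B), ∃ b : B, b • t₀ = s := fun s => by
      have hs : s ∈ Submodule.span B {t₀} := by
        refine (Submodule.span_mono ?_) ((SymmetricPower.span_tprod_eq_top B ι (KaehlerDifferential A B)).ge Submodule.mem_top)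
        rintro _ ⟨x, rfl⟩
        exact congrArg _ (Subsingleton.elim _ _)
      exact Submodule.mem_span_singleton.1 hs
    have hcard : Fintype.card ι = 0 := Fintype.card_eq_zero
    have hval : ∀ b : B, φ (b • t₀) = Submodule.Quotient.mk ⟨algebraMap B (B ⊗[A] B) b,
        by rw [hcard, pow_zero, Ideal.one_eq_top]; exact Submodule.mem_top⟩ := fun b => by
      rw [map_smul, show φ t₀ = PP16.zetaProd A B fun i => isEmptyElim i from SymGrLib.symLift_tprod _ _ _,
        PP16.zetaProd, ← Submodule.Quotient.mk_smul]
      refine congrArg _ (Subtype.ext ?_)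
      rw [Submodule.coe_smul_of_tower, Algebra.smul_def]
      simp
    refine ⟨φ, hφ, (injective_iff_map_eq_zero φ).2 fun s hs => ?_, fun z => ?_⟩
    · obtain ⟨b, rfl⟩ := ht s
      rw [hval, Submodule.Quotient.mk_eq_zero, Submodule.mem_comap, Submodule.subtype_apply,
        Submodule.restrictScalars_mem] at hs
      replace hs : algebraMap B (B ⊗[A] B) b ∈ KaehlerDifferential.ideal A B :=
        Ideal.pow_le_self (by omega : Fintype.card ι + 1 ≠ 0) hs
      have : mulHom A B (algebraMap B (B ⊗[A] B) b) = 0 := hs
      rw [mulHom_algebraMap] at this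
      rw [this, zero_smul]
    · obtain ⟨z, rfl⟩ := Submodule.Quotient.mk_surjective _ z
      refine ⟨mulHom A B z.1 • t₀, (hval _).trans ((Submodule.Quotient.eq _).2 ?_)⟩
      rw [Submodule.mem_comap, map_sub, Submodule.subtype_apply, Submodule.subtype_apply, Submodule.restrictScalars_mem]
      refine Ideal.pow_le_pow_right (show Fintype.card ι + 1 ≤ 1 by omega) ?_
      rw [pow_one, ← neg_sub]
      exact neg_mem (sub_algebraMap_mem A B z.1)
  · obtain ⟨φ, hφ, hb⟩ := hS ι
    obtain ⟨Ψ, hΨ, hΨs⟩ := exists_symEquiv (mulHom A B) (M := KaehlerDifferential A B) (mulHom_algebraMap A B) (smul_kaehler A B) ι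
    obtain ⟨e, he, hes⟩ := exists_grEquiv A B (Fintype.card ι)
    refine ⟨{ toFun := fun s => e (φ (Ψ s))
              map_add' := fun s t => by
                rw [map_add Ψ]
                exact (congrArg e (map_add φ _ _)).trans (map_add e _ _)
              map_smul' := fun b s => by
                show e (φ (Ψ (b • s))) = b • e (φ (Ψ s))
                rw [hΨs]
                exact (congrArg e (map_smul φ _ _)).trans (hes b _) },
      fun b => ?_, e.bijective.comp (hb.comp Ψ.bijective)⟩
    show e (φ (Ψ _)) = _
    rw [hΨ]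
    exact (congrArg e (hφ fun i => ⟨(1 : B) ⊗ₜ[A] b i - b i ⊗ₜ[A] (1 : B),
      KaehlerDifferential.one_smul_sub_smul_one_mem_ideal A (b i)⟩)).trans (he _ _)

theorem symGr_of_isDiffSmooth (h : PP16.IsDiffSmooth A B) :
    Module.Projective ((B ⊗[A] B) ⧸ KaehlerDifferential.ideal A B) (KaehlerDifferential.ideal A B).Cotangent ∧
      PP16.SymGrBijective (B ⊗[A] B) (KaehlerDifferential.ideal A B) := by
  classical
  refine ⟨(projective_iff A B).1 h.1, fun ι _ _ => ?_⟩
  obtain ⟨φ', hφ', hb⟩ := h.2 ι
  obtain ⟨φ, hφ, -⟩ := SymGrLib.exists_surjective_zetaJ (KaehlerDifferential.ideal A B) ι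
  refine ⟨φ, hφ, ?_⟩
  obtain ⟨Ψ, hΨ, hΨs⟩ := exists_symEquiv (mulHom A B) (M := KaehlerDifferential A B) (mulHom_algebraMap A B) (smul_kaehler A B) ι
  obtain ⟨e, he, hes⟩ := exists_grEquiv A B (Fintype.card ι)
  let L : SymmetricPower B ι (KaehlerDifferential A B) →ₗ[B] PP16.grI A B (Fintype.card ι) :=
    { toFun := fun s => e (φ (Ψ s))
      map_add' := fun s t => by
        rw [map_add Ψ]
        exact (congrArg e (map_add φ _ _)).trans (map_add e _ _)
      map_smul' := fun b s => by
        show e (φ (Ψ (b • s))) = b • e (φ (Ψ s))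
        rw [hΨs]
        exact (congrArg e (map_smul φ _ _)).trans (hes b _) }
  have hL : L = φ' := by
    refine symm_ext_span _ (KaehlerDifferential.span_range_derivation A B) fun x hx => ?_
    choose b hb' using hx
    obtain rfl : x = fun i => KaehlerDifferential.D A B (b i) := funext fun i => (hb' i).symm
    rw [hφ']
    show e (φ (Ψ _)) = _
    rw [hΨ]
    exact (congrArg e (hφ fun i => ⟨(1 : B) ⊗ₜ[A] b i - b i ⊗ₜ[A] (1 : B),
      KaehlerDifferential.one_smul_sub_smul_one_mem_ideal A (b i)⟩)).trans (he _ _)
  have hφe : ∀ z, φ z = e.symm (φ' (Ψ.symm z)) := fun z => e.eq_symm_apply.2 (by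
    rw [← hL]
    show _ = e (φ (Ψ (Ψ.symm z)))
    rw [Ψ.apply_symm_apply])
  rw [show (φ : _ → _) = fun z => e.symm (φ' (Ψ.symm z)) from funext hφe]
  exact e.symm.bijective.comp (hb.comp Ψ.symm.bijective)

end Groth.Agent.DiffSmLib
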