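import Mathlib
import Groth.Agent.DiffSmLib.Transfer

/-! Monomials in generators of the ideal of the diagonal. -/

set_option autoImplicit false
set_option linter.style.haveILetI false

universe u v

open TensorProduct MvPolynomial

namespace Groth.Agent.DiffSmLib

section Poly

/-- The universal property of symmetric powers, with values in any universe. -/
noncomputable def symLift' {R ι M : Type u} {N : Type*} [CommRing R] [AddCommGroup M] [Module R M] [AddCommGroup N]
    [Module R N] (m : MultilinearMap R (fun _ : ι => M) N)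
    (hm : ∀ (e : Equiv.Perm ι) (f : ι → M), m (fun i => f (e i)) = m f) : SymmetricPower R ι M →ₗ[R] N where
  toFun := (addConGen (SymmetricPower.Rel R ι M)).lift (PiTensorProduct.lift m).toAddMonoidHom
    (AddCon.addConGen_le.2 fun x y hxy => by
      cases hxy with
      | perm e f =>
        rw [AddCon.ker_rel]
        simp [hm])
  map_add' := map_add _
  map_smul' r x := AddCon.induction_on x fun x => by
    show PiTensorProduct.lift m (r • x) = r • PiTensorProduct.lift m x
    rw [map_smul]

theorem symLift'_tprod {R ι M : Type u} {N : Type*} [CommRing R] [AddCommGroup M] [Module R M] [AddCommGroup N]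
    [Module R N] (m : MultilinearMap R (fun _ : ι => M) N)
    (hm : ∀ (e : Equiv.Perm ι) (f : ι → M), m (fun i => f (e i)) = m f) (x : ι → M) :
    symLift' m hm (SymmetricPower.tprod R x) = m x :=
  PiTensorProduct.lift.tprod x

variable {B M : Type u} [CommRing B] [AddCommGroup M] [Module B M] {σ : Type v} (b : Module.Basis σ B M) (ι : Type u) [Fintype ι]

/-- Symmetric tensors as homogeneous polynomials in a basis. -/
noncomputable def symToPoly : SymmetricPower B ι M →ₗ[B] MvPolynomial σ B :=
  symLift' ((MultilinearMap.mkPiAlgebra B ι (MvPolynomial σ B)).compLinearMap fun _ => b.constr B X)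
    fun e f => by
      simp only [MultilinearMap.compLinearMap_apply, MultilinearMap.mkPiAlgebra_apply]
      exact Equiv.prod_comp e fun i => b.constr B X (f i)

theorem symToPoly_tprod (f : ι → σ) :
    symToPoly b ι (SymmetricPower.tprod B fun i => b (f i)) = monomial (∑ i, Finsupp.single (f i) 1) 1 := by
  rw [symToPoly, symLift'_tprod]
  simp [MvPolynomial.monomial_sum_one]
  rfl

theorem symToPoly_homogeneous (s : SymmetricPower B ι M) : (symToPoly b ι s).IsHomogeneous (Fintype.card ι) := by
  have hX : ∀ x : M, (b.constr B X x : MvPolynomial σ B).IsHomogeneous 1 := fun x => by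
    have hx : x ∈ Submodule.span B (Set.range b) := b.span_eq ▸ Submodule.mem_top
    induction hx using Submodule.span_induction with
    | mem y hy =>
      obtain ⟨i, rfl⟩ := hy
      rw [Module.Basis.constr_basis]
      exact isHomogeneous_X B i
    | zero => rw [map_zero]; exact isHomogeneous_zero _ _ _
    | add y z _ _ hy hz => rw [map_add]; exact hy.add hz
    | smul c y _ hy => rw [map_smul, smul_eq_C_mul]; exact hy.C_mul c
  have hs : s ∈ Submodule.span B (Set.range (SymmetricPower.tprod B (ι := ι) (M := M))) := by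
    rw [SymmetricPower.span_tprod_eq_top]; trivial
  induction hs using Submodule.span_induction with
  | mem y hy =>
    obtain ⟨x, rfl⟩ := hy
    rw [symToPoly, symLift'_tprod]
    simp only [MultilinearMap.compLinearMap_apply, MultilinearMap.mkPiAlgebra_apply]
    have := IsHomogeneous.prod Finset.univ _ (fun _ => 1) fun i _ => hX (x i)
    simpa using this
  | zero => rw [map_zero]; exact isHomogeneous_zero _ _ _
  | add y z _ _ hy hz => rw [map_add]; exact hy.add hz
  | smul c y _ hy => rw [map_smul, smul_eq_C_mul]; exact hy.C_mul c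

theorem symToPoly_injective : Function.Injective (symToPoly b ι) := by
  classical
  let T : (σ →₀ ℕ) → SymmetricPower B ι M := fun d =>
    if h : ∃ f : ι → σ, ∑ i, Finsupp.single (f i) (1 : ℕ) = d then SymmetricPower.tprod B fun i => b (h.choose i) else 0
  let g : MvPolynomial σ B →ₗ[B] SymmetricPower B ι M := (basisMonomials σ B).constr B T
  have h : g.comp (symToPoly b ι) = LinearMap.id := by
    refine symm_ext_span _ b.span_eq fun x hx => ?_
    choose f hf using hx
    obtain rfl : x = fun i => b (f i) := funext fun i => (hf i).symm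
    rw [LinearMap.comp_apply, symToPoly_tprod, LinearMap.id_apply,
      show monomial (∑ i, Finsupp.single (f i) 1) (1 : B) = basisMonomials σ B (∑ i, Finsupp.single (f i) 1) from by
        rw [coe_basisMonomials],
      Module.Basis.constr_basis]
    have h : ∃ g : ι → σ, ∑ i, Finsupp.single (g i) (1 : ℕ) = ∑ i, Finsupp.single (f i) 1 := ⟨f, rfl⟩
    show dite _ _ _ = _
    rw [dif_pos h]
    obtain ⟨e, he⟩ := SymGrLib.exists_perm_of_sum_single_eq h.choose_spec
    rw [show (fun i => b (h.choose i)) = fun i => (fun j => b (f j)) (e i) from funext fun i => by rw [← he i],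
      SymmetricPower.tprod_equiv e fun j => b (f j)]
  exact Function.LeftInverse.injective (g := g) fun s => LinearMap.congr_fun h s

omit [Fintype ι] in
theorem exists_tuple (d : σ →₀ ℕ) {k : ℕ} (hd : d.degree = k) :
    ∃ f : ULift.{u} (Fin k) → σ, ∑ i, Finsupp.single (f i) 1 = d := by
  classical
  induction k generalizing d with
  | zero => exact ⟨fun i => i.down.elim0, by rw [(Finsupp.degree_eq_zero_iff d).1 hd]; simp⟩
  | succ k ih =>
    obtain ⟨a, ha⟩ : ∃ a, d a ≠ 0 := by
      by_contra hn
      push Not at hn
      rw [show d = 0 from Finsupp.ext hn, map_zero] at hd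
      exact Nat.succ_ne_zero k hd.symm
    have hsplit : Finsupp.single a 1 + (d - Finsupp.single a 1) = d :=
      add_tsub_cancel_of_le (Finsupp.single_le_iff.2 (Nat.one_le_iff_ne_zero.2 ha))
    obtain ⟨f, hf⟩ := ih (d - Finsupp.single a 1) (by
      have h2 := congrArg Finsupp.degree hsplit
      rw [map_add, Finsupp.degree_single, hd] at h2
      omega)
    refine ⟨fun i => (Fin.cons a (fun j => f ⟨j⟩) : Fin (k + 1) → σ) i.down, ?_⟩
    rw [← Equiv.sum_comp Equiv.ulift.symm, Fin.sum_univ_succ]
    simp only [Equiv.ulift_symm_down, Fin.cons_zero, Fin.cons_succ]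
    rw [← hsplit, ← hf, ← Equiv.sum_comp Equiv.ulift.symm]
    rfl

theorem mem_range_symToPoly {k : ℕ} {P : MvPolynomial σ B} (hP : P.IsHomogeneous k) :
    P ∈ LinearMap.range (symToPoly b (ULift.{u} (Fin k))) := by
  classical
  rw [P.as_sum]
  refine sum_mem fun d hd => ?_
  rw [← mul_one (P.coeff d), ← smul_eq_mul, ← smul_monomial]
  refine Submodule.smul_mem _ _ ?_
  obtain ⟨f, hf⟩ := exists_tuple (σ := σ) d (k := k) ((hP.degree_eq_sum_deg_support hd).symm)
  exact ⟨SymmetricPower.tprod B fun i => b (f i), by rw [symToPoly_tprod, hf]⟩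

end Poly

variable {A B : Type u} [CommRing A] [CommRing B] [Algebra A B] {σ : Type v}

/-- Polynomials in elements of the ideal of the diagonal. -/
noncomputable abbrev evy (y : σ → B ⊗[A] B) : MvPolynomial σ B →ₐ[B] B ⊗[A] B := aeval y

theorem evy_mem_pow (y : σ → B ⊗[A] B) (hy : ∀ i, y i ∈ KaehlerDifferential.ideal A B) {k : ℕ}
    {P : MvPolynomial σ B} (hP : P.IsHomogeneous k) : evy y P ∈ KaehlerDifferential.ideal A B ^ k := by
  rw [evy, aeval_def, eval₂_eq]
  refine sum_mem fun d hd => Ideal.mul_mem_left _ _ ?_
  have h1 : ∏ i ∈ d.support, y i ^ d i ∈ ∏ i ∈ d.support, KaehlerDifferential.ideal A B ^ d i :=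
    Ideal.prod_mem_prod fun i _ => Ideal.pow_mem_pow (hy i) _
  rwa [Finset.prod_pow_eq_pow_sum, show ∑ i ∈ d.support, d i = k from (hP.degree_eq_sum_deg_support hd).symm] at h1

/-- Modulo the next power, every element of `I^k` is a homogeneous polynomial in generators. -/
theorem exists_homogeneous_sub_mem (y : σ → B ⊗[A] B) (hy : ∀ i, y i ∈ KaehlerDifferential.ideal A B)
    (hspan : Submodule.span B (Set.range fun i => (KaehlerDifferential.ideal A B).toCotangent ⟨y i, hy i⟩) = ⊤)
    (k : ℕ) : ∀ x ∈ KaehlerDifferential.ideal A B ^ k, ∃ P : MvPolynomial σ B,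
      P.IsHomogeneous k ∧ x - evy y P ∈ KaehlerDifferential.ideal A B ^ (k + 1) := by
  classical
  let I := KaehlerDifferential.ideal A B
  induction k with
  | zero =>
    intro x _
    refine ⟨C (mulHom A B x), isHomogeneous_C _ _, ?_⟩
    rw [zero_add, pow_one, evy, aeval_C]
    exact sub_algebraMap_mem A B x
  | succ k ih =>
    intro x hx
    rw [pow_succ'] at hx
    refine Submodule.mul_induction_on hx (fun a ha c hc => ?_) (fun u w ⟨P, hP, hu⟩ ⟨Q, hQ, hw⟩ =>
      ⟨P + Q, hP.add hQ, by rw [map_add, add_sub_add_comm]; exact add_mem hu hw⟩)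
    obtain ⟨l, hl⟩ := (Finsupp.mem_span_range_iff_exists_finsupp).1
      (show (I.toCotangent ⟨a, ha⟩ : KaehlerDifferential A B) ∈
        Submodule.span B (Set.range fun i => I.toCotangent ⟨y i, hy i⟩) by rw [hspan]; exact Submodule.mem_top)
    obtain ⟨Q, hQ, hcQ⟩ := ih c hc
    let L : MvPolynomial σ B := l.sum fun i r => C r * X i
    have hL : L.IsHomogeneous 1 := IsHomogeneous.sum _ _ _ fun i _ => (isHomogeneous_X B i).C_mul _
    have hLI : evy y L ∈ I := by
      have := evy_mem_pow y hy hL
      rwa [pow_one] at this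
    have haL : a - evy y L ∈ I ^ 2 := by
      have h0 : I.toCotangent (⟨a, ha⟩ - ∑ i ∈ l.support, l i • (⟨y i, hy i⟩ : I)) = 0 := by
        rw [map_sub, map_sum]
        simp only [LinearMap.map_smul_of_tower]
        exact sub_eq_zero.2 hl.symm
      have h1 := (I.toCotangent_eq_zero _).1 h0
      simpa [L, Finsupp.sum, evy, Algebra.smul_def] using h1
    refine ⟨L * Q, by simpa [add_comm] using hL.mul hQ, ?_⟩
    rw [map_mul, show a * c - evy y L * evy y Q = (a - evy y L) * c + evy y L * (c - evy y Q) by ring]
    refine add_mem ?_ ?_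
    · rw [show k + 1 + 1 = 2 + k by omega, pow_add]
      exact Ideal.mul_mem_mul haL hc
    · rw [pow_succ' _ (k + 1)]
      exact Ideal.mul_mem_mul hLI hcQ

/-- The degree `k` part of the canonical map, in terms of polynomials. -/
theorem gr_eq_evy {ι : Type u} [Fintype ι] (b : Module.Basis σ B (KaehlerDifferential A B)) (y : σ → B ⊗[A] B)
    (hy : ∀ i, y i ∈ KaehlerDifferential.ideal A B)
    (hb : ∀ i, (KaehlerDifferential.ideal A B).toCotangent ⟨y i, hy i⟩ = b i)
    (L : SymmetricPower B ι (KaehlerDifferential A B) →ₗ[B] PP16.grI A B (Fintype.card ι))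
    (hL : ∀ (x : ι → B ⊗[A] B) (hx : ∀ i, x i ∈ KaehlerDifferential.ideal A B),
      L (SymmetricPower.tprod B fun i => ((KaehlerDifferential.ideal A B).toCotangent ⟨x i, hx i⟩ : KaehlerDifferential A B)) =
        Submodule.Quotient.mk ⟨∏ i, x i, by
          simpa using PP16.prod_mem_pow (KaehlerDifferential.ideal A B) Finset.univ x (fun i _ => hx i)⟩)
    (s : SymmetricPower B ι (KaehlerDifferential A B)) :
    L s = Submodule.Quotient.mk ⟨evy y (symToPoly b ι s), evy_mem_pow y hy (symToPoly_homogeneous b ι s)⟩ := by
  let g : SymmetricPower B ι (KaehlerDifferential A B) →ₗ[B]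
      ↥((KaehlerDifferential.ideal A B ^ Fintype.card ι).restrictScalars B) :=
    ((evy y).toLinearMap.comp (symToPoly b ι)).codRestrict _ fun s => evy_mem_pow y hy (symToPoly_homogeneous b ι s)
  refine LinearMap.congr_fun (g := (Submodule.mkQ _).comp g) (symm_ext_span _ b.span_eq fun x hx => ?_) s
  choose f hf using hx
  obtain rfl : x = fun i => ((KaehlerDifferential.ideal A B).toCotangent ⟨y (f i), hy (f i)⟩ : KaehlerDifferential A B) :=
    funext fun i => (hf i).symm.trans (hb (f i)).symm
  rw [hL (fun i => y (f i)) fun i => hy (f i)]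
  refine congrArg Submodule.Quotient.mk (Subtype.ext ?_)
  show ∏ i, y (f i) = evy y (symToPoly b ι _)
  rw [show (fun i => ((KaehlerDifferential.ideal A B).toCotangent ⟨y (f i), hy (f i)⟩ : KaehlerDifferential A B)) =
    fun i => b (f i) from funext fun i => hb (f i), symToPoly_tprod, monomial_sum_one, map_prod]
  exact Finset.prod_congr rfl fun i _ => (aeval_X y (f i)).symm

variable {y : σ → B ⊗[A] B}

/-- Polynomials of degree at most `m` are detected in `P^m` once each graded piece is. -/
theorem eq_zero_of_evy_mem (hy : ∀ i, y i ∈ KaehlerDifferential.ideal A B)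
    (hind : ∀ (k : ℕ) (P : MvPolynomial σ B), P.IsHomogeneous k → evy y P ∈ KaehlerDifferential.ideal A B ^ (k + 1) → P = 0)
    {m : ℕ} (P : MvPolynomial σ B) (hdeg : P.totalDegree ≤ m) (hP : evy y P ∈ KaehlerDifferential.ideal A B ^ (m + 1)) :
    P = 0 := by
  classical
  have key : ∀ k, ∀ j < k, homogeneousComponent j P = 0 := by
    intro k
    induction k with
    | zero => intro j hj; exact absurd hj (Nat.not_lt_zero j)
    | succ k ih =>
      intro j hj
      rcases Nat.lt_succ_iff_lt_or_eq.1 hj with h | rfl
      · exact ih j h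
      by_cases hm : P.totalDegree < j
      · exact homogeneousComponent_eq_zero _ _ hm
      refine hind j _ (homogeneousComponent_isHomogeneous j P) ?_
      have hrest : ∑ i ∈ (Finset.range (P.totalDegree + 1)).erase j, evy y (homogeneousComponent i P) ∈
          KaehlerDifferential.ideal A B ^ (j + 1) := by
        refine sum_mem fun i hi => ?_
        rcases Nat.lt_or_gt_of_ne (Finset.mem_erase.1 hi).1 with h | h
        · rw [ih i h, map_zero]; exact zero_mem _
        · exact Ideal.pow_le_pow_right h (evy_mem_pow y hy (homogeneousComponent_isHomogeneous i P))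
      have hsum : evy y P = evy y (homogeneousComponent j P) +
          ∑ i ∈ (Finset.range (P.totalDegree + 1)).erase j, evy y (homogeneousComponent i P) := by
        rw [Finset.add_sum_erase _ (fun i => evy y (homogeneousComponent i P)) (Finset.mem_range.2 (by omega)),
          ← map_sum, sum_homogeneousComponent]
      rw [show evy y (homogeneousComponent j P) = evy y P -
        ∑ i ∈ (Finset.range (P.totalDegree + 1)).erase j, evy y (homogeneousComponent i P) by rw [hsum, add_sub_cancel_right]]
      exact sub_mem (Ideal.pow_le_pow_right (by omega : j + 1 ≤ m + 1) hP) hrest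
  rw [← sum_homogeneousComponent P]
  exact Finset.sum_eq_zero fun i hi => key (i + 1) i (Nat.lt_succ_self i)

end Groth.Agent.DiffSmLib
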