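import Mathlib
import Groth.Agent.DiffSmLib.Finite

/-! Base change and localisation of rings of principal parts. -/

set_option autoImplicit false
set_option linter.style.haveILetI false
set_option backward.isDefEq.respectTransparency false

universe u

open TensorProduct

attribute [local instance] PP16.mapAlgebra PP16.isScalarTower_mapAlgebra

namespace Groth.Agent.DiffSmLib

variable (n : ℕ) (A B A' B' : Type u) [CommRing A] [CommRing B] [Algebra A B]
  [CommRing A'] [CommRing B'] [Algebra A' B'] [Algebra A A'] [Algebra B B'] [Algebra A B']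
  [IsScalarTower A A' B'] [IsScalarTower A B B']

/-- The augmentation of the ring of principal parts. -/
noncomputable def augHom : PP16.P n A B →ₐ[B] B :=
  AlgHom.mk' (Ideal.Quotient.lift _ (mulHom A B) fun x hx => Ideal.pow_le_self (Nat.succ_ne_zero n) hx) fun c x => by
    obtain ⟨x, rfl⟩ := Ideal.Quotient.mk_surjective x
    rw [← Ideal.Quotient.mkₐ_eq_mk B, ← map_smul, Ideal.Quotient.mkₐ_eq_mk, Ideal.Quotient.lift_mk,
      Ideal.Quotient.lift_mk, Algebra.smul_def, map_mul, mulHom_algebraMap, smul_eq_mul]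

theorem augHom_mk (x : B ⊗[A] B) : augHom n A B (Ideal.Quotient.mk _ x) = mulHom A B x := rfl

theorem augHom_dn (b : B) : augHom n A B (PP16.dn n A B b) = b := by
  show mulHom A B ((1 : B) ⊗ₜ b) = b
  simp [mulHom]

theorem sub_augHom_mem (p : PP16.P n A B) : p - algebraMap B _ (augHom n A B p) ∈ PP16.augIdeal n A B := by
  obtain ⟨x, rfl⟩ := Ideal.Quotient.mk_surjective p
  rw [augHom_mk]
  show Ideal.Quotient.mk _ x - Ideal.Quotient.mk _ (algebraMap B (B ⊗[A] B) (mulHom A B x)) ∈ _
  rw [← map_sub]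
  exact Ideal.mem_map_of_mem _ (sub_algebraMap_mem A B x)

theorem augIdeal_pow : PP16.augIdeal n A B ^ (n + 1) = ⊥ := by
  rw [PP16.augIdeal, ← Ideal.map_pow, Ideal.map_quotient_self]

/-- Maps out of principal parts from two maps congruent modulo a nilpotent ideal. -/
theorem exists_lift_P {Q : Type u} [CommRing Q] (f₁ f₂ : B' →+* Q) (J : Ideal Q) (hJ : J ^ (n + 1) = ⊥)
    (hA : ∀ a, f₁ (algebraMap A' B' a) = f₂ (algebraMap A' B' a)) (hd : ∀ c, f₂ c - f₁ c ∈ J) :
    ∃ α : PP16.P n A' B' →+* Q, (∀ c, α (algebraMap B' _ c) = f₁ c) ∧ ∀ c, α (PP16.dn n A' B' c) = f₂ c := by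
  letI : Algebra A' Q := (f₁.comp (algebraMap A' B')).toAlgebra
  let g₁ : B' →ₐ[A'] Q := { f₁ with commutes' := fun _ => rfl }
  let g₂ : B' →ₐ[A'] Q := { f₂ with commutes' := fun a => (hA a).symm }
  let α₀ : B' ⊗[A'] B' →ₐ[A'] Q := Algebra.TensorProduct.lift g₁ g₂ fun _ _ => Commute.all _ _
  have hker : KaehlerDifferential.ideal A' B' ^ (n + 1) ≤ RingHom.ker α₀.toRingHom := by
    rw [← Ideal.map_eq_bot_iff_le_ker, Ideal.map_pow, eq_bot_iff, ← hJ]
    refine Ideal.pow_right_mono ?_ _
    rw [← KaehlerDifferential.span_range_eq_ideal, Ideal.map_span, Ideal.span_le]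
    rintro _ ⟨_, ⟨c, rfl⟩, rfl⟩
    simpa [α₀, g₁, g₂] using! hd c
  refine ⟨Ideal.Quotient.lift _ α₀.toRingHom fun x hx => hker hx, fun c => ?_, fun c => ?_⟩
  · show α₀ (c ⊗ₜ (1 : B')) = _
    simp [α₀, g₁]
  · show α₀ ((1 : B') ⊗ₜ c) = _
    simp [α₀, g₂]

section

variable {B B'} {P P' : Type u} [CommRing P] [CommRing P'] [Algebra B P] [Algebra B' P'] [Algebra B P'] [Algebra P P']
  [IsScalarTower B B' P'] [IsScalarTower B P P']

omit [CommRing P'] [Algebra B' P'] [Algebra B P'] [Algebra P P'] [IsScalarTower B B' P'] [IsScalarTower B P P'] in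
theorem sub_mem_of_aug (aug : P →ₐ[B] B) {J₀ : Ideal P} (hJ₀ : J₀ ^ (n + 1) = ⊥)
    (hsub : ∀ p, p - algebraMap B P (aug p) ∈ J₀) (r : B' →+* P ⊗[B] B')
    (hr : (Algebra.TensorProduct.lift ((Algebra.ofId B B').comp aug) (AlgHom.id B B') fun _ _ => Commute.all _ _ :
      P ⊗[B] B' →ₐ[B] B').toRingHom.comp r = RingHom.id B') :
    ∃ J : Ideal (P ⊗[B] B'), J ^ (n + 1) = ⊥ ∧ ∀ c, r c - (1 : P) ⊗ₜ c ∈ J := by
  set ε : P ⊗[B] B' →ₐ[B] B' := Algebra.TensorProduct.lift ((Algebra.ofId B B').comp aug) (AlgHom.id B B') fun _ _ => Commute.all _ _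
  refine ⟨J₀.map (Algebra.TensorProduct.includeLeft : P →ₐ[B] P ⊗[B] B'), by rw [← Ideal.map_pow, hJ₀, Ideal.map_bot], fun c => ?_⟩
  have hεJ : ∀ x, x - (1 : P) ⊗ₜ ε x ∈ J₀.map (Algebra.TensorProduct.includeLeft : P →ₐ[B] P ⊗[B] B') := fun x => by
    induction x with
    | zero => simp
    | add x y hx hy =>
      rw [map_add, TensorProduct.tmul_add]
      convert add_mem hx hy using 1
      abel
    | tmul p c =>
      have h1 : ε (p ⊗ₜ c) = aug p • c := by
        simp [ε, Algebra.smul_def]
      rw [h1, TensorProduct.tmul_smul, TensorProduct.smul_tmul', ← TensorProduct.sub_tmul,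
        ← Algebra.algebraMap_eq_smul_one,
        show ((p - algebraMap B P (aug p)) ⊗ₜ[B] c : P ⊗[B] B') =
          ((p - algebraMap B P (aug p)) ⊗ₜ[B] (1 : B')) * ((1 : P) ⊗ₜ[B] c) by simp]
      exact Ideal.mul_mem_right _ _ (Ideal.mem_map_of_mem _ (hsub p))
  have h := hεJ (r c)
  rwa [show ε (r c) = c from RingHom.congr_fun hr c] at h

/-- The pushout criterion. -/
theorem isPushout_of_sections (d : B →+* P) (d' : B' →+* P')
    (hgen : Submodule.span B (Set.range d) = ⊤) (hgen' : Submodule.span B' (Set.range d') = ⊤)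
    (hd : ∀ b, algebraMap P P' (d b) = d' (algebraMap B B' b))
    (r : B' →+* P ⊗[B] B') (hrB : ∀ b, r (algebraMap B B' b) = d b ⊗ₜ 1)
    (hr : ∀ c, (Algebra.TensorProduct.lift (IsScalarTower.toAlgHom B P P') (IsScalarTower.toAlgHom B B' P')
      fun _ _ => Commute.all _ _ : P ⊗[B] B' →ₐ[B] P') (r c) = d' c)
    (α : P' →+* P ⊗[B] B') (hαinc : ∀ c, α (algebraMap B' P' c) = 1 ⊗ₜ c) (hαd : ∀ c, α (d' c) = r c) :
    Algebra.IsPushout B P B' P' := by
  set β : P ⊗[B] B' →ₐ[B] P' := Algebra.TensorProduct.lift (IsScalarTower.toAlgHom B P P') (IsScalarTower.toAlgHom B B' P')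
    fun _ _ => Commute.all _ _
  have hβ : ∀ (p : P) (c : B'), β (p ⊗ₜ c) = algebraMap P P' p * algebraMap B' P' c := fun p c => by simp [β]
  have h1 : ∀ x : P', β (α x) = x := fun x => by
    have hx : x ∈ Submodule.span B' (Set.range d') := hgen' ▸ Submodule.mem_top
    induction hx using Submodule.span_induction with
    | mem y hy =>
      obtain ⟨c, rfl⟩ := hy
      rw [hαd, hr]
    | zero => rw [map_zero, map_zero]
    | add y z _ _ hy hz => rw [map_add, map_add, hy, hz]
    | smul c y _ hy => rw [Algebra.smul_def, map_mul, map_mul, hy, hαinc, hβ, map_one, one_mul]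
  have h3 : ∀ p : P, α (algebraMap P P' p) = p ⊗ₜ 1 := fun p => by
    have hp : p ∈ Submodule.span B (Set.range d) := hgen ▸ Submodule.mem_top
    induction hp using Submodule.span_induction with
    | mem y hy =>
      obtain ⟨b, rfl⟩ := hy
      rw [hd, hαd, hrB]
    | zero => rw [map_zero, map_zero, TensorProduct.zero_tmul]
    | add y z _ _ hy hz => rw [map_add, map_add, hy, hz, TensorProduct.add_tmul]
    | smul b y _ hy =>
      rw [Algebra.smul_def, map_mul, map_mul, hy, ← IsScalarTower.algebraMap_apply,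
        IsScalarTower.algebraMap_apply B B' P', hαinc,
        show ((1 : P) ⊗ₜ[B] algebraMap B B' b) = algebraMap B P b ⊗ₜ[B] (1 : B') by
          rw [Algebra.algebraMap_eq_smul_one, Algebra.algebraMap_eq_smul_one, TensorProduct.tmul_smul,
            TensorProduct.smul_tmul'],
        Algebra.TensorProduct.tmul_mul_tmul, mul_one]
  have h2 : ∀ x, α (β x) = x := fun x => by
    induction x with
    | zero => rw [map_zero, map_zero]
    | add a b ha hb => rw [map_add, map_add, ha, hb]
    | tmul p c =>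
      rw [hβ, map_mul, h3, hαinc]
      simp
  let e : P ⊗[B] B' ≃ₐ[P] P' :=
    AlgEquiv.ofBijective
      ({ β.toRingHom with commutes' := fun p => ((hβ p 1).trans (by rw [map_one, mul_one])) } : P ⊗[B] B' →ₐ[P] P')
      ⟨fun a b h => by rw [← h2 a, ← h2 b]; exact congrArg α h, fun y => ⟨α y, h1 y⟩⟩
  letI : Algebra B' (P ⊗[B] B') := Algebra.TensorProduct.rightAlgebra
  refine Algebra.IsPushout.of_equiv e (RingHom.ext fun c => ?_)
  show β ((1 : P) ⊗ₜ c) = algebraMap B' P' c
  rw [hβ, map_one, one_mul]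

end

/-- Principal parts commute with an extension `B → B'` compatible with `A → A'`, given the extension of `d^n`. -/
theorem isPushout_P (r : B' →+* PP16.P n A B ⊗[B] B')
    (hrB : ∀ b, r (algebraMap B B' b) = PP16.dn n A B b ⊗ₜ 1)
    (hrA : ∀ a : A', r (algebraMap A' B' a) = 1 ⊗ₜ algebraMap A' B' a)
    (hext : ∀ {T : Type u} [CommRing T] (f g : B' →+* T), (∀ b, f (algebraMap B B' b) = g (algebraMap B B' b)) →
      (∀ a, f (algebraMap A' B' a) = g (algebraMap A' B' a)) → f = g) :
    Algebra.IsPushout B (PP16.P n A B) B' (PP16.P n A' B') := by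
  obtain ⟨J, hJ, hmem⟩ := sub_mem_of_aug n (augHom n A B) (augIdeal_pow n A B) (sub_augHom_mem n A B) r (hext _ _
    (fun b => by
      simp only [RingHom.comp_apply, hrB, RingHom.id_apply]
      simp [augHom_dn])
    (fun a => by
      simp only [RingHom.comp_apply, hrA, RingHom.id_apply]
      simp))
  obtain ⟨α, hα₁, hα₂⟩ := exists_lift_P n A' B'
    (Algebra.TensorProduct.includeRight : B' →ₐ[B] PP16.P n A B ⊗[B] B').toRingHom r J hJ
    (fun a => (hrA a).symm) (fun c => hmem c)
  refine isPushout_of_sections (PP16.dn n A B).toRingHom (PP16.dn n A' B').toRingHom (span_range_dn n A B)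
    (span_range_dn n A' B') (fun b => PP16.map_dn n A B A' B' b) r hrB ?_ α hα₁ hα₂
  intro c
  exact RingHom.congr_fun (hext ((Algebra.TensorProduct.lift (IsScalarTower.toAlgHom B (PP16.P n A B) (PP16.P n A' B'))
      (IsScalarTower.toAlgHom B B' (PP16.P n A' B')) fun _ _ => Commute.all _ _).toRingHom.comp r)
      (PP16.dn n A' B').toRingHom
    (fun b => by
      simp only [RingHom.comp_apply, hrB]
      simpa using! PP16.map_dn n A B A' B' b)
    (fun a => by
      simp only [RingHom.comp_apply, hrA]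
      simp [← IsScalarTower.algebraMap_apply])) c

/-- Base change. -/
theorem isPushout_baseChange [Algebra.IsPushout A B A' B'] :
    Algebra.IsPushout B (PP16.P n A B) B' (PP16.P n A' B') := by
  let g : A' →ₐ[A] PP16.P n A B ⊗[B] B' :=
    { ((Algebra.TensorProduct.includeRight : B' →ₐ[B] PP16.P n A B ⊗[B] B').toRingHom.comp (algebraMap A' B')) with
      commutes' := fun a => by
        show (1 : PP16.P n A B) ⊗ₜ[B] algebraMap A' B' (algebraMap A A' a) = algebraMap A _ a
        rw [← IsScalarTower.algebraMap_apply, IsScalarTower.algebraMap_apply A B B',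
          IsScalarTower.algebraMap_apply A B (PP16.P n A B ⊗[B] B')]
        exact (Algebra.TensorProduct.includeRight : B' →ₐ[B] PP16.P n A B ⊗[B] B').commutes _ }
  let f : B →ₐ[A] PP16.P n A B ⊗[B] B' :=
    ((Algebra.TensorProduct.includeLeft : PP16.P n A B →ₐ[B] PP16.P n A B ⊗[B] B').restrictScalars A).comp (PP16.dn n A B)
  refine isPushout_P n A B A' B' (Algebra.pushoutDesc B' f g fun x y => mul_comm (f x) (g y)).toRingHom
    (fun b => Algebra.pushoutDesc_left B' f g _ b) (fun a => Algebra.pushoutDesc_right B' f g _ a)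
    fun {T} _ f' g' hB hA => RingHom.ext fun x => ?_
  have h : IsTensorProduct _ := (Algebra.IsPushout.out (R := A) (S := B) (R' := A') (S' := B'))
  induction x using h.inductionOn with
  | zero => rw [map_zero, map_zero]
  | add x y hx hy => rw [map_add, map_add, hx, hy]
  | tmul b a =>
    show f' (b • algebraMap A' B' a) = g' (b • algebraMap A' B' a)
    rw [Algebra.smul_def, map_mul, map_mul, hB, hA]

/-- Localisation. -/
theorem isPushout_localization (S : Submonoid B) [IsLocalization S B'] :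
    Algebra.IsPushout B (PP16.P n A B) B' (PP16.P n A B') := by
  let inc : B →+* PP16.P n A B ⊗[B] B' :=
    (Algebra.TensorProduct.includeLeft : PP16.P n A B →ₐ[B] PP16.P n A B ⊗[B] B').toRingHom.comp (PP16.dn n A B).toRingHom
  have hu : ∀ s : S, IsUnit (inc s) := fun s => by
    have h1 : IsUnit ((algebraMap B (PP16.P n A B) s) ⊗ₜ[B] (1 : B')) := by
      rw [Algebra.algebraMap_eq_smul_one, TensorProduct.smul_tmul, ← Algebra.algebraMap_eq_smul_one]
      exact (IsLocalization.map_units B' s).map Algebra.TensorProduct.includeRight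
    have h2 : IsNilpotent ((PP16.dn n A B s - algebraMap B (PP16.P n A B) s) ⊗ₜ[B] (1 : B')) := by
      refine IsNilpotent.map ⟨n + 1, ?_⟩ (Algebra.TensorProduct.includeLeft : PP16.P n A B →ₐ[B] PP16.P n A B ⊗[B] B')
      rw [← Ideal.mem_bot, ← augIdeal_pow n A B]
      refine Ideal.pow_mem_pow ?_ _
      have := sub_augHom_mem n A B (PP16.dn n A B s)
      rwa [augHom_dn] at this
    have := h2.isUnit_add_left_of_commute h1 (mul_comm (G := PP16.P n A B ⊗[B] B') _ _)
    rw [← TensorProduct.add_tmul, add_sub_cancel] at this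
    exact this
  let r : B' →+* PP16.P n A B ⊗[B] B' := IsLocalization.lift (P := PP16.P n A B ⊗[B] B') hu
  refine isPushout_P n A B A B' r (fun b => IsLocalization.lift_eq hu b) (fun a => ?_)
    fun {T} _ f' g' hB _ => IsLocalization.ringHom_ext S (RingHom.ext hB)
  show r _ = _
  rw [IsScalarTower.algebraMap_apply A B B', show r (algebraMap B B' (algebraMap A B a)) = inc (algebraMap A B a) from IsLocalization.lift_eq hu _]
  show PP16.dn n A B (algebraMap A B a) ⊗ₜ[B] (1 : B') = _
  rw [AlgHom.commutes, IsScalarTower.algebraMap_apply A B (PP16.P n A B), Algebra.algebraMap_eq_smul_one,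
    TensorProduct.smul_tmul, ← Algebra.algebraMap_eq_smul_one]

end Groth.Agent.DiffSmLib
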