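import Mathlib
import Groth.Prelude.Def_PP16

/-! Kernels of the functoriality maps between rings of principal parts. -/

set_option autoImplicit false
set_option linter.style.haveILetI false

universe u

open TensorProduct Function

namespace Groth.Agent.DiffSmLib

theorem ker_quot_pow {R R' : Type u} [CommRing R] [CommRing R'] (φ : R →+* R') (hφ : Surjective φ) {I : Ideal R}
    {I' : Ideal R'} (h : I.map φ = I') (m : ℕ) (ψ : R ⧸ I ^ m →+* R' ⧸ I' ^ m)
    (hψ : ∀ x, ψ (Ideal.Quotient.mk _ x) = Ideal.Quotient.mk _ (φ x)) :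
    Surjective ψ ∧ RingHom.ker ψ = (RingHom.ker φ).map (Ideal.Quotient.mk (I ^ m)) := by
  subst h
  refine ⟨fun y => ?_, le_antisymm (fun x hx => ?_) ?_⟩
  · obtain ⟨y, rfl⟩ := Ideal.Quotient.mk_surjective y
    obtain ⟨x, rfl⟩ := hφ y
    exact ⟨_, hψ x⟩
  · obtain ⟨x, rfl⟩ := Ideal.Quotient.mk_surjective x
    rw [RingHom.mem_ker, hψ, Ideal.Quotient.eq_zero_iff_mem, ← Ideal.map_pow,
      Ideal.mem_map_iff_of_surjective φ hφ] at hx
    obtain ⟨y, hy, he⟩ := hx
    rw [show Ideal.Quotient.mk (I ^ m) x = Ideal.Quotient.mk (I ^ m) (x - y) by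
      rw [map_sub, Ideal.Quotient.eq_zero_iff_mem.2 hy, sub_zero]]
    exact Ideal.mem_map_of_mem _ (by rw [RingHom.mem_ker, map_sub, he, sub_self])
  · rw [Ideal.map_le_iff_le_comap]
    intro x hx
    rw [Ideal.mem_comap, RingHom.mem_ker, hψ, RingHom.mem_ker.1 hx, map_zero]

section

variable (A B A' B' : Type u) [CommRing A] [CommRing B] [Algebra A B]
  [CommRing A'] [CommRing B'] [Algebra A' B'] [Algebra A A'] [Algebra B B'] [Algebra A B']
  [IsScalarTower A A' B'] [IsScalarTower A B B']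

theorem ideal_map_tensorMap (h : Surjective (algebraMap B B')) :
    (KaehlerDifferential.ideal A B).map (PP16.tensorMap A B A' B') = KaehlerDifferential.ideal A' B' := by
  rw [← KaehlerDifferential.span_range_eq_ideal, ← KaehlerDifferential.span_range_eq_ideal, Ideal.map_span]
  congr 1
  ext y
  constructor
  · rintro ⟨_, ⟨s, rfl⟩, rfl⟩
    exact ⟨algebraMap B B' s, by simp only [map_sub, PP16.tensorMap_tmul, map_one]⟩
  · rintro ⟨c, rfl⟩
    obtain ⟨s, rfl⟩ := h c
    exact ⟨_, ⟨s, rfl⟩, by simp only [map_sub, PP16.tensorMap_tmul, map_one]⟩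

theorem tensorMap_surjective (h : Surjective (algebraMap B B')) : Surjective (PP16.tensorMap A B A' B') := by
  intro z
  induction z with
  | zero => exact ⟨0, map_zero _⟩
  | add x y hx hy =>
    obtain ⟨a, rfl⟩ := hx
    obtain ⟨b, rfl⟩ := hy
    exact ⟨a + b, map_add _ _ _⟩
  | tmul a b =>
    obtain ⟨a, rfl⟩ := h a
    obtain ⟨b, rfl⟩ := h b
    exact ⟨a ⊗ₜ b, PP16.tensorMap_tmul A B A' B' a b⟩

theorem map_surjective_and_ker (n : ℕ) (h : Surjective (algebraMap B B')) :
    Surjective (PP16.map n A B A' B') ∧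
      RingHom.ker (PP16.map n A B A' B') = (RingHom.ker (PP16.tensorMap A B A' B')).map (Ideal.Quotient.mk _) :=
  ker_quot_pow (PP16.tensorMap A B A' B').toRingHom (tensorMap_surjective A B A' B' h) (ideal_map_tensorMap A B A' B' h)
    (n + 1) (PP16.map n A B A' B').toRingHom fun x => PP16.map_mk n A B A' B' x

end

section Tower

variable (A B C : Type u) [CommRing A] [CommRing B] [CommRing C]
  [Algebra A B] [Algebra B C] [Algebra A C] [IsScalarTower A B C]

theorem ker_tensorMap_tower :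
    RingHom.ker (PP16.tensorMap A C B C) = (KaehlerDifferential.ideal A B).map (PP16.tensorMap A B A C) := by
  set K := (KaehlerDifferential.ideal A B).map (PP16.tensorMap A B A C)
  refine le_antisymm (fun x hx => ?_) ?_
  · let f₁ : C →ₐ[B] (C ⊗[A] C) ⧸ K :=
      (Ideal.Quotient.mkₐ B K).comp (Algebra.TensorProduct.includeLeft : C →ₐ[B] C ⊗[A] C)
    let f₂ : C →ₐ[B] (C ⊗[A] C) ⧸ K :=
      { ((Ideal.Quotient.mk K).comp (Algebra.TensorProduct.includeRight : C →ₐ[A] C ⊗[A] C).toRingHom) with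
        commutes' := fun b => by
          show Ideal.Quotient.mk K ((1 : C) ⊗ₜ[A] algebraMap B C b) = Ideal.Quotient.mk K (algebraMap B C b ⊗ₜ[A] (1 : C))
          rw [Ideal.Quotient.eq]
          have := Ideal.mem_map_of_mem (PP16.tensorMap A B A C) (KaehlerDifferential.one_smul_sub_smul_one_mem_ideal A b)
          simpa only [map_sub, PP16.tensorMap_tmul, map_one] using this }
    let α : C ⊗[B] C →ₐ[B] (C ⊗[A] C) ⧸ K := Algebra.TensorProduct.lift f₁ f₂ fun _ _ => Commute.all _ _
    have hα : ∀ z, α (PP16.tensorMap A C B C z) = Ideal.Quotient.mk K z := fun z => by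
      induction z with
      | zero => simp only [map_zero]
      | add a b ha hb => simp only [map_add, ha, hb]
      | tmul a b =>
        rw [PP16.tensorMap_tmul, Algebra.algebraMap_self, RingHom.id_apply, RingHom.id_apply,
          Algebra.TensorProduct.lift_tmul]
        show Ideal.Quotient.mk K (a ⊗ₜ[A] (1 : C)) * Ideal.Quotient.mk K ((1 : C) ⊗ₜ[A] b) = _
        rw [← map_mul, Algebra.TensorProduct.tmul_mul_tmul, mul_one, one_mul]
    rw [← Ideal.Quotient.eq_zero_iff_mem, ← hα, RingHom.mem_ker.1 hx, map_zero]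
  · rw [Ideal.map_le_iff_le_comap, ← KaehlerDifferential.span_range_eq_ideal, Ideal.span_le]
    rintro _ ⟨s, rfl⟩
    rw [SetLike.mem_coe, Ideal.mem_comap, RingHom.mem_ker]
    simp only [map_sub, PP16.tensorMap_tmul, map_one, Algebra.algebraMap_self, RingHom.id_apply]
    rw [sub_eq_zero, Algebra.algebraMap_eq_smul_one, TensorProduct.tmul_smul, ← TensorProduct.smul_tmul']

theorem map_tower (n : ℕ) :
    Surjective (PP16.map n A C B C) ∧
      RingHom.ker (PP16.map n A C B C) = (PP16.augIdeal n A B).map (PP16.map n A B A C) := by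
  obtain ⟨hs, hk⟩ := map_surjective_and_ker A C B C n (fun c => ⟨c, rfl⟩)
  refine ⟨hs, hk.trans ?_⟩
  rw [ker_tensorMap_tower, PP16.augIdeal]
  simp only [Ideal.map_span, ← KaehlerDifferential.span_range_eq_ideal, ← Set.image_comp]
  rfl

end Tower

section Retraction

variable {A B : Type u} [CommRing A] [CommRing B] [Algebra A B] (g : B →ₐ[A] A)

theorem dn_mod_section (n : ℕ) :
    Surjective ((Ideal.Quotient.mk ((RingHom.ker g).map (algebraMap B (PP16.P n A B)))).comp
        (PP16.dn n A B).toRingHom) ∧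
      RingHom.ker ((Ideal.Quotient.mk ((RingHom.ker g).map (algebraMap B (PP16.P n A B)))).comp
        (PP16.dn n A B).toRingHom) = RingHom.ker g ^ (n + 1) := by
  let φ : B ⊗[A] B →ₐ[A] B := Algebra.TensorProduct.lift ((Algebra.ofId A B).comp g) (AlgHom.id A B) fun _ _ => Commute.all _ _
  let K₁ : Ideal (B ⊗[A] B) := (RingHom.ker g).map (algebraMap B (B ⊗[A] B))
  have hK : (RingHom.ker g).map (algebraMap B (PP16.P n A B)) = K₁.map (Ideal.Quotient.mk _) := by
    rw [Ideal.map_map]
    rfl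
  have hφ : ∀ r, r - (1 : B) ⊗ₜ[A] φ r ∈ K₁ := fun r => by
    induction r with
    | zero => simp
    | add x y hx hy =>
      rw [map_add, TensorProduct.tmul_add]
      convert add_mem hx hy using 1
      abel
    | tmul a b =>
      have h1 : a ⊗ₜ[A] b - (1 : B) ⊗ₜ[A] φ (a ⊗ₜ b) = algebraMap B (B ⊗[A] B) (a - algebraMap A B (g a)) * (1 ⊗ₜ b) := by
        rw [map_sub, sub_mul]
        simp only [φ, Algebra.TensorProduct.lift_tmul, AlgHom.comp_apply, Algebra.ofId_apply, AlgHom.id_apply,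
          Algebra.TensorProduct.algebraMap_apply, Algebra.TensorProduct.tmul_mul_tmul, Algebra.algebraMap_self,
          RingHom.id_apply, mul_one, one_mul]
        rw [← Algebra.smul_def, TensorProduct.tmul_smul, TensorProduct.smul_tmul', Algebra.algebraMap_eq_smul_one]
      rw [h1]
      exact Ideal.mul_mem_right _ _ (Ideal.mem_map_of_mem _ (by rw [RingHom.mem_ker, map_sub, AlgHom.commutes]; simp))
  have hφK : ∀ r ∈ K₁, φ r = 0 := by
    intro r hr
    refine RingHom.mem_ker.1 ((Ideal.map_le_iff_le_comap.2 fun a ha => ?_ : K₁ ≤ RingHom.ker φ) hr)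
    rw [Ideal.mem_comap, RingHom.mem_ker]
    simp only [φ, Algebra.TensorProduct.algebraMap_apply, Algebra.algebraMap_self, RingHom.id_apply,
      Algebra.TensorProduct.lift_tmul, AlgHom.comp_apply, map_one, mul_one, RingHom.mem_ker.1 ha, map_zero]
  have hI : (KaehlerDifferential.ideal A B).map φ = RingHom.ker g := by
    rw [← KaehlerDifferential.span_range_eq_ideal, Ideal.map_span, ← Set.range_comp]
    refine le_antisymm (Ideal.span_le.2 ?_) fun x hx => Ideal.subset_span ⟨x, ?_⟩
    · rintro _ ⟨s, rfl⟩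
      simp [φ]
    · simp [φ, RingHom.mem_ker.1 hx]
  rw [hK]
  refine ⟨fun y => ?_, le_antisymm (fun x hx => ?_) (fun x hx => ?_)⟩
  · obtain ⟨y, rfl⟩ := Ideal.Quotient.mk_surjective y
    obtain ⟨r, rfl⟩ := Ideal.Quotient.mk_surjective y
    exact ⟨φ r, (Ideal.Quotient.eq.2 (Ideal.mem_map_of_mem (Ideal.Quotient.mk _) (hφ r))).symm⟩
  · have hx' : Ideal.Quotient.mk _ ((1 : B) ⊗ₜ[A] x) ∈ K₁.map (Ideal.Quotient.mk (KaehlerDifferential.ideal A B ^ (n + 1))) :=
      Ideal.Quotient.eq_zero_iff_mem.1 hx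
    rw [Ideal.mem_quotient_iff_mem_sup] at hx'
    obtain ⟨a, ha, b, hb, he⟩ := Submodule.mem_sup.1 hx'
    have := congrArg φ he
    rw [map_add, hφK a ha, zero_add] at this
    simp [φ] at this
    rw [← this, ← hI, ← Ideal.map_pow]
    exact Ideal.mem_map_of_mem _ hb
  · rw [← hI, ← Ideal.map_pow, Ideal.mem_map_iff_of_surjective φ (fun b => ⟨1 ⊗ₜ b, by simp [φ]⟩)] at hx
    obtain ⟨r, hr, rfl⟩ := hx
    show Ideal.Quotient.mk _ (Ideal.Quotient.mk _ ((1 : B) ⊗ₜ[A] φ r)) = 0
    rw [Ideal.Quotient.eq_zero_iff_mem, Ideal.mem_quotient_iff_mem_sup, show (1 : B) ⊗ₜ[A] φ r = -(r - (1 : B) ⊗ₜ[A] φ r) + r by abel]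
    exact Submodule.add_mem_sup (neg_mem (hφ r)) hr

end Retraction

end Groth.Agent.DiffSmLib
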