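import Mathlib
import Groth.Agent.DiffSmLib.Transfer

/-! Principal parts of symmetric and polynomial algebras. -/

set_option autoImplicit false
set_option linter.style.haveILetI false

universe u v

open TensorProduct

namespace Groth.Agent.DiffSmLib

variable {A B : Type u} [CommRing A] [CommRing B] [Algebra A B] {C : Type*} [CommRing C] [Algebra B C]

theorem comap_ker_eq (Φ : B ⊗[A] B ≃ₐ[B] C) (ε : C →ₐ[B] B) (h : ∀ b, ε (Φ ((1 : B) ⊗ₜ b)) = b) :
    (RingHom.ker ε).comap Φ.toAlgHom = KaehlerDifferential.ideal A B := by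
  have hε : ∀ x, ε (Φ x) = mulHom A B x := fun x => by
    induction x with
    | zero => simp
    | add a b ha hb => rw [map_add, map_add, map_add, ha, hb]
    | tmul a b =>
      have hab : (a ⊗ₜ[A] b : B ⊗[A] B) = a • ((1 : B) ⊗ₜ[A] b) := by rw [TensorProduct.smul_tmul', smul_eq_mul, mul_one]
      conv_lhs => rw [hab, map_smul, map_smul, h]
      simp [mulHom]
  ext x
  rw [Ideal.mem_comap, RingHom.mem_ker]
  exact Iff.of_eq (congrArg (· = 0) (hε x))

/-- Principal parts from a presentation of the diagonal. -/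
noncomputable def pEquiv (n : ℕ) (Φ : B ⊗[A] B ≃ₐ[B] C) (ε : C →ₐ[B] B) (h : ∀ b, ε (Φ ((1 : B) ⊗ₜ b)) = b) :
    PP16.P n A B ≃ₐ[B] C ⧸ RingHom.ker ε ^ (n + 1) :=
  Ideal.quotientEquivAlg _ _ Φ (by
    rw [← comap_ker_eq Φ ε h]
    show _ = ((RingHom.ker ε).comap Φ.toAlgHom ^ (n + 1)).map (Φ.toAlgHom : B ⊗[A] B →ₐ[B] C)
    rw [Ideal.map_pow]
    exact congrArg (· ^ (n + 1)) (Ideal.map_comap_of_surjective Φ.toAlgHom Φ.surjective _).symm)

theorem pEquiv_dn (n : ℕ) (Φ : B ⊗[A] B ≃ₐ[B] C) (ε : C →ₐ[B] B) (h : ∀ b, ε (Φ ((1 : B) ⊗ₜ b)) = b) (b : B) :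
    pEquiv n Φ ε h (PP16.dn n A B b) = Ideal.Quotient.mk _ (Φ ((1 : B) ⊗ₜ b)) := rfl


theorem exists_quotEquiv {R X Y : Type*} [CommRing R] [CommRing X] [CommRing Y] [Algebra R X] [Algebra R Y]
    (G : X →ₐ[R] Y) (hG : Function.Surjective G) (J : Ideal X) (h : RingHom.ker G = J) :
    ∃ e : (X ⧸ J) ≃ₐ[R] Y, ∀ x, e (Ideal.Quotient.mk J x) = G x := by
  subst h
  exact ⟨Ideal.quotientKerAlgEquivOfSurjective hG, fun x => rfl⟩

/-- Principal parts from a shear and a retraction `B → A`. -/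
theorem exists_algEquiv_of_shear (n : ℕ) (ε₀ : B →ₐ[A] A) (Φ : B ⊗[A] B ≃ₐ[B] B ⊗[A] B)
    (h : ∀ b, ((Algebra.TensorProduct.rid A B B).toAlgHom.comp (Algebra.TensorProduct.map (AlgHom.id B B) ε₀))
      (Φ ((1 : B) ⊗ₜ b)) = b) :
    ∃ e : PP16.P n A B ≃ₐ[B] B ⊗[A] (B ⧸ RingHom.ker ε₀ ^ (n + 1)),
      ∀ b, e (PP16.dn n A B b) = Algebra.TensorProduct.map (AlgHom.id B B) (Ideal.Quotient.mkₐ A _) (Φ ((1 : B) ⊗ₜ b)) := by
  set ε : B ⊗[A] B →ₐ[B] B := (Algebra.TensorProduct.rid A B B).toAlgHom.comp (Algebra.TensorProduct.map (AlgHom.id B B) ε₀)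
  have hker : RingHom.ker ε = (RingHom.ker ε₀).map (Algebra.TensorProduct.includeRight : B →ₐ[A] B ⊗[A] B) := by
    rw [← Algebra.TensorProduct.lTensor_ker (A := B) ε₀ fun a => ⟨algebraMap A B a, ε₀.commutes a⟩]
    ext x
    rw [RingHom.mem_ker, RingHom.mem_ker]
    exact (Algebra.TensorProduct.rid A B B).map_eq_zero_iff
  let q : B →ₐ[A] B ⧸ RingHom.ker ε₀ ^ (n + 1) := Ideal.Quotient.mkₐ A _
  let G : B ⊗[A] B →ₐ[B] B ⊗[A] (B ⧸ RingHom.ker ε₀ ^ (n + 1)) := Algebra.TensorProduct.map (AlgHom.id B B) q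
  have hG : Function.Surjective G := fun y => by
    induction y with
    | zero => exact ⟨0, map_zero G⟩
    | add a b ha hb =>
      obtain ⟨a, rfl⟩ := ha
      obtain ⟨b, rfl⟩ := hb
      exact ⟨a + b, map_add G a b⟩
    | tmul a b =>
      obtain ⟨b, rfl⟩ := Ideal.Quotient.mk_surjective b
      exact ⟨a ⊗ₜ b, Algebra.TensorProduct.map_tmul _ _ a b⟩
  have hGk : RingHom.ker G = RingHom.ker ε ^ (n + 1) := by
    rw [hker, ← Ideal.map_pow]
    have h2 := Algebra.TensorProduct.lTensor_ker (A := B) q Ideal.Quotient.mk_surjective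
    rw [show RingHom.ker q = RingHom.ker ε₀ ^ (n + 1) from Ideal.Quotient.mkₐ_ker A _] at h2
    rw [← h2]
    have hx : ∀ x, G x = Algebra.TensorProduct.map (AlgHom.id A B) q x := fun x => by
      induction x with
      | zero => rw [map_zero, map_zero]
      | add a b ha hb => rw [map_add, map_add, ha, hb]
      | tmul a b => rw [Algebra.TensorProduct.map_tmul, Algebra.TensorProduct.map_tmul]; rfl
    ext x
    rw [RingHom.mem_ker, RingHom.mem_ker, hx]
  obtain ⟨e, he⟩ := exists_quotEquiv G hG _ hGk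
  exact ⟨(pEquiv n Φ ε h).trans e, fun b => by rw [AlgEquiv.trans_apply, pEquiv_dn, he]⟩

end Groth.Agent.DiffSmLib

namespace Groth.Agent.DiffSmLib

variable (A E : Type u) [CommRing A] [AddCommGroup E] [Module A E]

/-- `1 ⊗ t ↦ s • (t ⊗ 1) + 1 ⊗ t`. -/
noncomputable def shearHom (s : ℤ) :
    SymmetricAlgebra A E ⊗[A] SymmetricAlgebra A E →ₐ[SymmetricAlgebra A E]
      SymmetricAlgebra A E ⊗[A] SymmetricAlgebra A E :=
  Algebra.TensorProduct.lift Algebra.TensorProduct.includeLeft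
    (SymmetricAlgebra.lift
      ((Algebra.TensorProduct.includeRight : SymmetricAlgebra A E →ₐ[A] _).toLinearMap.comp (SymmetricAlgebra.ι A E) +
        s • (Algebra.TensorProduct.includeLeft : SymmetricAlgebra A E →ₐ[A] _).toLinearMap.comp (SymmetricAlgebra.ι A E)))
    fun _ _ => Commute.all _ _

theorem shearHom_left (s : ℤ) (a : SymmetricAlgebra A E) : shearHom A E s (a ⊗ₜ 1) = a ⊗ₜ 1 := by
  rw [shearHom, Algebra.TensorProduct.lift_tmul, map_one, mul_one]
  rfl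

theorem shearHom_ι (s : ℤ) (t : E) : shearHom A E s (1 ⊗ₜ SymmetricAlgebra.ι A E t) =
    1 ⊗ₜ SymmetricAlgebra.ι A E t + s • (SymmetricAlgebra.ι A E t ⊗ₜ 1) := by
  rw [shearHom, Algebra.TensorProduct.lift_tmul, map_one, one_mul, SymmetricAlgebra.lift_ι_apply]
  rfl

theorem shearHom_comp (r s : ℤ) (hrs : r + s = 0) : (shearHom A E r).comp (shearHom A E s) = AlgHom.id _ _ := by
  refine Algebra.TensorProduct.ext (AlgHom.ext fun a => ?_) (SymmetricAlgebra.algHom_ext (LinearMap.ext fun t => ?_))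
  · show shearHom A E r (shearHom A E s (a ⊗ₜ 1)) = a ⊗ₜ 1
    rw [shearHom_left, shearHom_left]
  · show shearHom A E r (shearHom A E s (1 ⊗ₜ SymmetricAlgebra.ι A E t)) = 1 ⊗ₜ SymmetricAlgebra.ι A E t
    rw [shearHom_ι, map_add, shearHom_ι, map_zsmul, shearHom_left, add_assoc, ← add_smul, hrs, zero_smul, add_zero]

/-- The shear `1 ⊗ t ↦ t ⊗ 1 + 1 ⊗ t`. -/
noncomputable def symShear :
    SymmetricAlgebra A E ⊗[A] SymmetricAlgebra A E ≃ₐ[SymmetricAlgebra A E]
      SymmetricAlgebra A E ⊗[A] SymmetricAlgebra A E :=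
  AlgEquiv.ofAlgHom (shearHom A E 1) (shearHom A E (-1)) (shearHom_comp A E 1 (-1) rfl) (shearHom_comp A E (-1) 1 rfl)

theorem symShear_ι (t : E) :
    symShear A E (1 ⊗ₜ SymmetricAlgebra.ι A E t) = SymmetricAlgebra.ι A E t ⊗ₜ 1 + 1 ⊗ₜ SymmetricAlgebra.ι A E t :=
  (shearHom_ι A E 1 t).trans (by rw [one_smul, add_comm])

theorem exists_algEquiv_symmetricAlgebra (n : ℕ) :
    ∃ e : PP16.P n A (SymmetricAlgebra A E) ≃ₐ[SymmetricAlgebra A E]
        (SymmetricAlgebra A E ⊗[A] (SymmetricAlgebra A E ⧸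
          RingHom.ker (SymmetricAlgebra.lift (0 : E →ₗ[A] A)) ^ (n + 1))),
      ∀ t : E, e (PP16.dn n A (SymmetricAlgebra A E) (SymmetricAlgebra.ι A E t)) =
        SymmetricAlgebra.ι A E t ⊗ₜ 1 + 1 ⊗ₜ Ideal.Quotient.mk _ (SymmetricAlgebra.ι A E t) := by
  obtain ⟨e, he⟩ := exists_algEquiv_of_shear n (SymmetricAlgebra.lift (0 : E →ₗ[A] A)) (symShear A E) (fun b => by
    refine AlgHom.congr_fun (φ₁ := ((((Algebra.TensorProduct.rid A (SymmetricAlgebra A E) (SymmetricAlgebra A E)).toAlgHom.comp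
      (Algebra.TensorProduct.map (AlgHom.id _ _) (SymmetricAlgebra.lift (0 : E →ₗ[A] A)))).comp
      (symShear A E).toAlgHom).restrictScalars A).comp Algebra.TensorProduct.includeRight)
      (φ₂ := AlgHom.id A _) (SymmetricAlgebra.algHom_ext (LinearMap.ext fun t => ?_)) b
    simp [symShear_ι])
  exact ⟨e, fun t => by
    rw [he, symShear_ι, map_add]
    simp⟩

variable (σ : Type u)

theorem exists_algEquiv_mvPolynomial (n : ℕ) :
    ∃ e : PP16.P n A (MvPolynomial σ A) ≃ₐ[MvPolynomial σ A]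
        (MvPolynomial σ (MvPolynomial σ A) ⧸
          Ideal.span (Set.range (MvPolynomial.X : σ → MvPolynomial σ (MvPolynomial σ A))) ^ (n + 1)),
      ∀ i : σ, e (PP16.dn n A (MvPolynomial σ A) (MvPolynomial.X i)) =
        Ideal.Quotient.mk _ (MvPolynomial.C (MvPolynomial.X i : MvPolynomial σ A) +
          (MvPolynomial.X i : MvPolynomial σ (MvPolynomial σ A))) := by
  let f₁ : (MvPolynomial σ A) ⊗[A] (MvPolynomial σ A) →ₐ[(MvPolynomial σ A)] MvPolynomial σ (MvPolynomial σ A) :=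
    Algebra.TensorProduct.lift (Algebra.ofId (MvPolynomial σ A) _)
      (MvPolynomial.aeval fun i => MvPolynomial.C (MvPolynomial.X i : (MvPolynomial σ A)) + MvPolynomial.X i) fun _ _ => Commute.all _ _
  let f₂ : MvPolynomial σ (MvPolynomial σ A) →ₐ[(MvPolynomial σ A)] (MvPolynomial σ A) ⊗[A] (MvPolynomial σ A) :=
    MvPolynomial.aeval fun i => (1 : (MvPolynomial σ A)) ⊗ₜ[A] (MvPolynomial.X i : (MvPolynomial σ A)) - (MvPolynomial.X i : (MvPolynomial σ A)) ⊗ₜ[A] (1 : (MvPolynomial σ A))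
  let Φ : (MvPolynomial σ A) ⊗[A] (MvPolynomial σ A) ≃ₐ[(MvPolynomial σ A)] MvPolynomial σ (MvPolynomial σ A) := AlgEquiv.ofAlgHom f₁ f₂
    (MvPolynomial.algHom_ext fun i => by simp [f₁, f₂])
    (Algebra.TensorProduct.ext (Subsingleton.elim _ _) (MvPolynomial.algHom_ext fun i => by
      simp [f₁, f₂, Algebra.TensorProduct.algebraMap_apply]))
  let ε : MvPolynomial σ (MvPolynomial σ A) →ₐ[(MvPolynomial σ A)] (MvPolynomial σ A) := MvPolynomial.aeval fun _ => 0
  have h : ∀ b, ε (Φ ((1 : (MvPolynomial σ A)) ⊗ₜ b)) = b := fun b => by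
    have : ((ε.comp Φ.toAlgHom).restrictScalars A).comp (Algebra.TensorProduct.includeRight : (MvPolynomial σ A) →ₐ[A] _) = AlgHom.id A _ :=
      MvPolynomial.algHom_ext fun i => by simp [ε, Φ, f₁]
    exact AlgHom.congr_fun this b
  have hker : RingHom.ker ε = Ideal.span (Set.range (MvPolynomial.X : σ → MvPolynomial σ (MvPolynomial σ A))) := by
    refine le_antisymm (fun p hp => ?_) (Ideal.span_le.2 ?_)
    · rw [RingHom.mem_ker] at hp
      have hc : MvPolynomial.constantCoeff p = 0 := by simpa [ε, MvPolynomial.aeval_zero] using hp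
      show p ∈ MvPolynomial.idealOfVars σ (MvPolynomial σ A)
      rw [← pow_one (MvPolynomial.idealOfVars σ (MvPolynomial σ A)), MvPolynomial.mem_pow_idealOfVars_iff']
      intro x hx
      rw [(Finsupp.degree_eq_zero_iff x).1 (Nat.lt_one_iff.1 hx)]
      rwa [← MvPolynomial.constantCoeff_eq]
    · rintro _ ⟨i, rfl⟩
      simp [ε]
  refine ⟨(pEquiv n Φ ε h).trans (Ideal.quotientEquivAlgOfEq _ (by rw [hker])), fun i => ?_⟩
  show Ideal.Quotient.mk _ (Φ _) = _
  simp [Φ, f₁]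

end Groth.Agent.DiffSmLib
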