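import Mathlib
import Groth.Agent.DiffOp.Basic
import Groth.Prelude.Def_PP16

/-! The universal property of `P^n ⊗ M` for differential operators. -/

set_option autoImplicit false
set_option linter.style.haveILetI false
set_option backward.isDefEq.respectTransparency false

universe u

open TensorProduct Diff16

namespace Groth.Agent.DiffSmLib

variable {A B : Type u} [CommRing A] [CommRing B] [Algebra A B]
  {M N : Type u} [AddCommGroup M] [Module A M] [Module B M] [IsScalarTower A B M]
  [AddCommGroup N] [Module A N] [Module B N] [IsScalarTower A B N]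

/-- An element of `P^n`, seen through the second factor. -/
noncomputable abbrev toPr (n : ℕ) (x : B ⊗[A] B) : PP16.Pr n A B :=
  (Ideal.Quotient.mk (KaehlerDifferential.ideal A B ^ (n + 1)) x : PP16.P n A B)

theorem smul_toPr (n : ℕ) (b : B) (x : B ⊗[A] B) : b • toPr n x = toPr n ((1 : B) ⊗ₜ[A] b * x) := by
  show PP16.dn n A B b * Ideal.Quotient.mk _ x = _
  exact (map_mul (Ideal.Quotient.mk (KaehlerDifferential.ideal A B ^ (n + 1))) _ _).symm

theorem mk_smul_toPr (n : ℕ) (x y : B ⊗[A] B) :
    (Ideal.Quotient.mk _ x : PP16.P n A B) • toPr n y = toPr n (x * y) :=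
  (map_mul (Ideal.Quotient.mk (KaehlerDifferential.ideal A B ^ (n + 1))) x y).symm

theorem isDiffOpLE_iff_existsUnique (n : ℕ) (D : M →ₗ[A] N) :
    Diff16.IsDiffOpLE A B M N n D ↔
      ∃! u : PP16.PM n A B M →+ N,
        (∀ (b : B) (t : PP16.PM n A B M), u (algebraMap B (PP16.P n A B) b • t) = b • u t) ∧
          ∀ m : M, u (PP16.dM n A B M m) = D m := by
  have key : ∀ u : PP16.PM n A B M →+ N,
      (∀ (b : B) (t : PP16.PM n A B M), u (algebraMap B (PP16.P n A B) b • t) = b • u t) →
      (∀ m : M, u (PP16.dM n A B M m) = D m) →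
      ∀ (x : B ⊗[A] B) (m : M), u (toPr n x ⊗ₜ m) = DiffOp.act A B M N x D m := by
    intro u hu hd x m
    induction x with
    | zero => simp [toPr]
    | add x y hx hy =>
      rw [show toPr n (x + y) = toPr n x + toPr n y from map_add _ x y, TensorProduct.add_tmul, map_add, hx, hy,
        map_add, LinearMap.add_apply, LinearMap.add_apply]
    | tmul a c =>
      rw [DiffOp.act_tmul, ← hd, ← hu]
      congr 1
      show toPr n (a ⊗ₜ[A] c) ⊗ₜ[B] m = algebraMap B (PP16.P n A B) a • (toPr n ((1 : B) ⊗ₜ[A] (1 : B)) ⊗ₜ[B] (c • m))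
      rw [← TensorProduct.smul_tmul, smul_toPr, TensorProduct.smul_tmul']
      refine congrArg (· ⊗ₜ[B] m) ((Eq.symm ?_ : _))
      exact (mk_smul_toPr n (a ⊗ₜ[A] (1 : B)) _).trans (by simp)
  constructor
  · intro h
    rw [DiffOp.isDiffOpLE_iff'] at h
    let f₀ : B ⊗[A] B →+ (M →ₗ[A] N) :=
      (LinearMap.applyₗ (R := A) D).toAddMonoidHom.comp (DiffOp.act A B M N).toLinearMap.toAddMonoidHom
    have hf₀ : ∀ x, f₀ x = DiffOp.act A B M N x D := fun x => rfl
    let f₁ : PP16.Pr n A B →+ (M →ₗ[A] N) :=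
      QuotientAddGroup.lift (KaehlerDifferential.ideal A B ^ (n + 1)).toAddSubgroup f₀ fun x hx => h x hx
    have hf₁ : ∀ x, f₁ (toPr n x) = DiffOp.act A B M N x D := fun x => rfl
    let u : PP16.PM n A B M →+ N := TensorProduct.liftAddHom
      ((AddMonoidHom.mk' LinearMap.toAddMonoidHom (fun f g => rfl) : (M →ₗ[A] N) →+ (M →+ N)).comp f₁) fun b p m => by
        obtain ⟨x, rfl⟩ : ∃ x, toPr n x = p := Ideal.Quotient.mk_surjective (p : PP16.P n A B)
        show f₁ (b • toPr n x) m = f₁ (toPr n x) (b • m)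
        rw [smul_toPr, hf₁, hf₁, mul_comm, DiffOp.act_mul]
        induction x with
        | zero => simp
        | add x y hx hy => simp [map_add, hx, hy]
        | tmul a c => simp [smul_smul, mul_comm]
    have hu : ∀ x m, u (toPr n x ⊗ₜ m) = DiffOp.act A B M N x D m := fun x m => rfl
    refine ⟨u, ⟨fun b t => ?_, fun m => ?_⟩, fun v hv => ?_⟩
    · induction t using TensorProduct.induction_on with
      | zero => simp
      | add s t hs ht => rw [smul_add, map_add, hs, ht, map_add, smul_add]
      | tmul p m =>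
        obtain ⟨x, rfl⟩ : ∃ x, toPr n x = p := Ideal.Quotient.mk_surjective (p : PP16.P n A B)
        rw [TensorProduct.smul_tmul', show algebraMap B (PP16.P n A B) b • toPr n x = toPr n (b ⊗ₜ[A] (1 : B) * x) from
          mk_smul_toPr n _ _, hu, hu, DiffOp.act_mul, DiffOp.act_tmul, one_smul]
    · show u (toPr n ((1 : B) ⊗ₜ[A] (1 : B)) ⊗ₜ m) = _
      rw [hu, DiffOp.act_tmul, one_smul, one_smul]
    · refine AddMonoidHom.ext fun t => ?_
      induction t using TensorProduct.induction_on with
      | zero => simp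
      | add s t hs ht => rw [map_add, map_add, hs, ht]
      | tmul p m =>
        obtain ⟨x, rfl⟩ : ∃ x, toPr n x = p := Ideal.Quotient.mk_surjective (p : PP16.P n A B)
        rw [key v hv.1 hv.2, hu]
  · rintro ⟨u, ⟨hu, hd⟩, -⟩
    rw [DiffOp.isDiffOpLE_iff']
    intro x hx
    refine LinearMap.ext fun m => ?_
    rw [← key u hu hd, show toPr n x = 0 from Ideal.Quotient.eq_zero_iff_mem.2 hx, TensorProduct.zero_tmul, map_zero]
    rfl

end Groth.Agent.DiffSmLib
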